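import Cfsg.Agent.H427.Fc.SpR
import Cfsg.Agent.H899.Cyc.Fac
import Cfsg.Agent.H81.CycSRow
import Cfsg.Agent.H264.FKS.SpFour
import Cfsg.Agent.H381.SzSpec
import Cfsg.Agent.S0205

/-!
# `PSp₄(q)`, `q ≥ 4` even, has no factorization `A M`, `A ≅ S ^ l` (helper427, S3679)

* `noFac_psp4` : `NoFac (PSp 2 F)`, `|F| ≥ 4` even.
-/

set_option autoImplicit false

namespace Cfsg.Agent.H427.Fc

open Module Cfsg Cfsg.Geo Cfsg.Agent.H899.CG Cfsg.Agent.H262.El Cfsg.Agent.H876 Cfsg.Agent.H931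
open scoped Matrix MatrixGroups

theorem two_zero {F : Type*} [Field F] [Fintype F] (heven : ¬ Odd (Fintype.card F)) : (2 : F) = 0 := by
  rw [Nat.not_odd_iff_even, Nat.even_iff, ← FiniteField.even_card_iff_char_two] at heven
  have h1 := ringChar.Nat.cast_ringChar (R := F)
  rw [heven] at h1
  exact_mod_cast h1

theorem exists_pow {F : Type*} [Field F] [Fintype F] (h2 : (2 : F) = 0) : ∃ f, Nat.card F = 2 ^ f := by
  have : CharP F 2 := CharTwo.of_one_ne_zero_of_two_eq_zero one_ne_zero h2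
  obtain ⟨n, -, hn⟩ := FiniteField.card F 2
  exact ⟨n, by rw [Nat.card_eq_fintype_card, hn]⟩

variable {F : Type} [Field F] [Fintype F]

/-- a finite non-abelian simple group has even order -/
theorem two_dvd {S : Type*} [Group S] [Finite S] (hS : IsSimpleGroup S) (hSna : ¬ IsMulCommutative S) :
    2 ∣ Nat.card S := by
  by_contra h
  have h1 : Odd (Nat.card S) := by
    rw [← Nat.not_even_iff_odd, even_iff_two_dvd]
    exact h
  have h3 := Cfsg.Agent.S0205.result h1
  have := hS.toNontrivial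
  apply hSna
  refine ⟨⟨fun a b => ?_⟩⟩
  exact (IsSimpleGroup.comm_iff_isSolvable).2 h3 a b

/-- the centre is trivial in characteristic two -/
theorem center_bot (heven : ¬ Odd (Fintype.card F)) :
    Subgroup.center (Matrix.symplecticGroup (Fin 2) F) = ⊥ := by
  have h1 := Cfsg.Agent.S0246.result (F := F) rfl 2 (by norm_num)
  have h2 : Nat.gcd 2 (Fintype.card F - 1) = 1 := by
    rw [Nat.not_odd_iff_even] at heven
    have h3 : Odd (Fintype.card F - 1) := Nat.Even.sub_odd Fintype.card_pos heven odd_one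
    exact (Nat.coprime_two_left).2 h3
  rw [h2] at h1
  exact Subgroup.card_eq_one.1 h1

/-- `Sp₄(q) ≃ PSp₄(q)` -/
noncomputable def spEquiv (heven : ¬ Odd (Fintype.card F)) : Matrix.symplecticGroup (Fin 2) F ≃* PSp 2 F :=
  MulEquiv.ofBijective (QuotientGroup.mk' (Subgroup.center (Matrix.symplecticGroup (Fin 2) F)))
    ⟨by
      rw [← MonoidHom.ker_eq_bot_iff, QuotientGroup.ker_mk', center_bot heven],
     QuotientGroup.mk'_surjective _⟩

/-- **`PSp₄(q)`, `q ≥ 4` even.** -/
theorem noFac_psp4 (heven : ¬ Odd (Fintype.card F)) (h4 : 4 ≤ Fintype.card F) : NoFac (PSp 2 F) := by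
  intro S _ _ hS hSna A M l hM h
  have h2 : (2 : F) = 0 := two_zero heven
  have h2S := two_dvd hS hSna
  have hmk : ∀ x, spEquiv heven x = (QuotientGroup.mk x : PSp 2 F) := fun x => rfl
  have h' := h.congr (spEquiv heven).symm
  obtain ⟨e⟩ := h'.iso
  have hmem : ∀ m ∈ M.map (spEquiv heven).symm.toMonoidHom, spToGL 2 F m ∈ pre M := by
    rintro _ ⟨x, hx, rfl⟩
    rw [mem_pre, ← hmk]
    change spEquiv heven ((spEquiv heven).symm x) ∈ M
    rw [MulEquiv.apply_symm_apply]
    exact hx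
  have hB := sy_symp (m := 2) h2
  have hfr : finrank F (Fin 2 ⊕ Fin 2 → F) = 4 := by
    rw [Module.finrank_fintype_fun_eq_card]
    rfl
  have h3 : 3 ≤ Nat.card F := by rw [Nat.card_eq_fintype_card]; omega
  have hQ1 := qf_symp (m := 2) h2
  rcases H81.CycS.igap_psp_two h4 hM.1 with hg | hr | hs
  · exact h.not_iGap hg
  · obtain ⟨P, m, hP, hm, hF, ⟨e1⟩⟩ := S5791.result heven h4 (pre M) (H264.FKS.isMaximalIn_pre hM) hr
    obtain ⟨S1, h1, h5, h6, h7, ⟨e2⟩⟩ := H264.FKS.exists_socle (spToGL 2 F) spToGL_injective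
      (QuotientGroup.mk' (Subgroup.center (Matrix.symplecticGroup (Fin 2) F))) (QuotientGroup.mk'_surjective _)
      H264.FKS.hker_sp (M := M) hP
    have hcS : Nat.card S1 = (2 ^ (2 * m + 1)) ^ 2 * (2 ^ (2 * m + 1) - 1) * ((2 ^ (2 * m + 1)) ^ 2 + 1) := by
      rw [Nat.card_congr (e2.trans e1).toEquiv, (S1163.result hm hF).1]
    have hO : Nat.card (Cfsg.Out S1) = 2 * m + 1 := by
      rw [H934.OutB.card_out_congr (e2.trans e1)]
      exact S2126.result hm hF
    have hMd : Nat.card M ∣ (2 * m + 1) *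
        ((2 ^ (2 * m + 1)) ^ 2 * (2 ^ (2 * m + 1) - 1) * ((2 ^ (2 * m + 1)) ^ 2 + 1)) := by
      have h8 := H264.FKS.dvd_aut S1 h7
      rwa [← H934.OutB.card_out_mul S1 h6, hO, hcS] at h8
    -- an element of order four
    obtain ⟨-, x0, -, hx0, -⟩ := H381.SzSpec.exists_five (F := F) (m := m) hF
    set x1 : S1 := (e2.trans e1).symm x0 with hx1
    have ho1 : orderOf x1 = 4 := by rw [hx1, MulEquiv.orderOf_eq, hx0]
    set x2 : PSp 2 F := ((x1 : M) : PSp 2 F) with hx2
    have ho2 : orderOf x2 = 4 := by rw [hx2, Subgroup.orderOf_coe, Subgroup.orderOf_coe, ho1]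
    have hFc : Nat.card F = 2 ^ (2 * m + 1) := by rw [Nat.card_eq_fintype_card, hF]
    refine main_sz hB rp_symp rhoSp_inj hfr h.two_le hS hSna h2S e h'.fac hQ1 (exists_pow h2) ?_ ?_
      (x := (spEquiv heven).symm x2) ⟨x2, (x1 : M).2, rfl⟩ (by rw [MulEquiv.orderOf_eq, ho2])
    · rw [LieClassical.SympCount.card_symplecticGroup, Nat.card_eq_fintype_card]
      exact Dvd.intro _ rfl
    · rw [Subgroup.card_map_of_injective (spEquiv heven).symm.injective, hFc]
      intro hd
      have h8 := hd.trans hMd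
      have h9 : (2 * m + 1) * ((2 ^ (2 * m + 1)) ^ 2 * (2 ^ (2 * m + 1) - 1) * ((2 ^ (2 * m + 1)) ^ 2 + 1)) =
          ((2 * m + 1) * (2 ^ (2 * m + 1) - 1) * ((2 ^ (2 * m + 1)) ^ 2 + 1)) * (2 ^ (2 * m + 1)) ^ 2 := by ring
      rw [h9] at h8
      have h10 := Nat.dvd_of_mul_dvd_mul_right (by positivity) h8
      have hq2 : 2 ∣ 2 ^ (2 * m + 1) := dvd_pow_self _ (by omega)
      have hq1 : 1 ≤ 2 ^ (2 * m + 1) := Nat.one_le_two_pow
      rcases Nat.prime_two.dvd_mul.1 h10 with h11 | h11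
      · rcases Nat.prime_two.dvd_mul.1 h11 with h12 | h12
        · omega
        · omega
      · have h12 : 2 ∣ (2 ^ (2 * m + 1)) ^ 2 := dvd_pow hq2 (by norm_num)
        omega
  · rcases hs with ⟨-, -, Q, -, -, -, hpol, hle⟩ | ⟨-, K, hK, hsa, hle⟩
    · have hQ : Qf (sympForm 2 F) (⇑Q) := by
        refine ⟨fun c v => ?_, fun v w => ?_⟩
        · rw [QuadraticMap.map_smul, smul_eq_mul]
        · rw [← hpol, QuadraticMap.polar]
          ring
      refine main_quad hB rp_symp rhoSp_inj hfr h3 h.two_le hS hSna e h'.fac hQ fun m hm v => ?_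
      rw [rhoSp_apply]
      exact (H925.mem_iso_iff.1 (hle (hmem m hm))) v
    · obtain ⟨k₀, α, β, hk, hn⟩ := exists_kf h2 hK hsa
      refine main_field hB rp_symp rhoSp_inj hfr h3 h.two_le hS hSna h2S e h'.fac hQ1 hk fun m hm => ?_
      rcases hn _ (hle (hmem m hm)) with h5 | h5
      · left
        intro v
        rw [rhoSp_apply, rhoSp_apply]
        exact h5 v
      · right
        intro v
        rw [rhoSp_apply, rhoSp_apply]
        exact h5 v

end Cfsg.Agent.H427.Fc
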