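import Cfsg.Agent.H427.Fc.Sm2
import Cfsg.Agent.H427.Fc.SpD
import Cfsg.Agent.H884.ElFin

/-!
# `PSp₂ₘ(q)`, `q`, `m ≥ 4` even: no factorization by a subgroup of `O⁻₂ₘ(q)` (helper427, S3679)

* `not_fac_spm` : `(q, m) ≠ (2, 6)`, `pre M` fixes a quadratic form of minus type: no `Fac (PSp m F) A M S l`.
-/

set_option autoImplicit false

namespace Cfsg.Agent.H427.Fc

open Module QuadraticMap Cfsg Cfsg.Geo Cfsg.Agent.H899.CG Cfsg.Agent.H262.El Cfsg.Agent.H955
open Cfsg.Agent.LieClassical.OrthCore Cfsg.Agent.LieClassical.OmegaReindex Cfsg.Agent.LieClassical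
open Cfsg.Agent.ClassicalGeometry.SympBasic Cfsg.Agent.H876 Cfsg.Agent.H931
open Cfsg.Agent.H951 (cm)
open Cfsg.Agent.H884.El (PP exists_pp exists_g lin)
open scoped Matrix MatrixGroups

universe u

variable {F : Type u} [Field F] [Fintype F] {m : ℕ}

/-- the centre is trivial in characteristic two -/
theorem center_bot_sp (hm : 1 ≤ m) (heven : Even (Fintype.card F)) :
    Subgroup.center (Matrix.symplecticGroup (Fin m) F) = ⊥ := by
  have h1 := Cfsg.Agent.S0246.result (F := F) rfl m hm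
  have h2 : Nat.gcd 2 (Fintype.card F - 1) = 1 :=
    (Nat.coprime_two_left).2 (Nat.Even.sub_odd Fintype.card_pos heven odd_one)
  rw [h2] at h1
  exact Subgroup.card_eq_one.1 h1

/-- `Sp₂ₘ(q) ≃ PSp₂ₘ(q)` -/
noncomputable def spmEquiv (hm : 1 ≤ m) (heven : Even (Fintype.card F)) :
    Matrix.symplecticGroup (Fin m) F ≃* PSp m F :=
  MulEquiv.ofBijective (QuotientGroup.mk' (Subgroup.center (Matrix.symplecticGroup (Fin m) F)))
    ⟨by
      rw [← MonoidHom.ker_eq_bot_iff, QuotientGroup.ker_mk', center_bot_sp hm heven],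
     QuotientGroup.mk'_surjective _⟩

/-- an element of order `r` which is fixed point free -/
theorem exists_elt_sp {r : ℕ} (h2 : (2 : F) = 0) (hm : 4 ≤ m) (hme : Even m) (hr : PP (Nat.card F) m r) :
    ∃ x : Matrix.symplecticGroup (Fin m) F, orderOf x = r ∧ finrank F (cm (rhoSp m F x)) = 2 * m := by
  have hprime := Fact.mk hr.prime
  obtain ⟨g, hg, hgr, hg1, hgd⟩ := exists_g (Q := quadPlus m F) (A := 2) (nondeg_iff.2 quadPlus_nondegenerate) hr hme
    (by omega) (by omega) (Or.inl ⟨by rw [H884.El.card_plus]; exact even_two_mul m,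
      Or.inr ⟨by rw [H884.El.card_plus]; ring, iff_of_true (H884.El.isPlus_quadPlus m) (by decide)⟩⟩)
  have hQ := qf_symp (m := m) h2
  have hq : ∀ v, quadPlus m F v = ∑ i, v (Sum.inl i) * v (Sum.inr i) := fun v => by
    rw [coe_quadPlus]; rfl
  have hgQ : ∀ v, quadPlus m F ((g : Matrix _ _ F) *ᵥ v) = quadPlus m F v := fun v => (H925.mem_iso_iff.1 hg) v
  have hmem : (g : Matrix (Fin m ⊕ Fin m) (Fin m ⊕ Fin m) F) ∈ Matrix.symplecticGroup (Fin m) F := by
    refine mem_symplecticGroup_iff.2 fun v w => ?_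
    have e1 := hQ.polar v w
    have e2 := hQ.polar ((g : Matrix _ _ F) *ᵥ v) ((g : Matrix _ _ F) *ᵥ w)
    simp only [← hq] at e1 e2
    rw [← Matrix.mulVec_add, hgQ, hgQ, hgQ] at e2
    linear_combination e1 - e2
  refine ⟨⟨_, hmem⟩, ?_, ?_⟩
  · refine orderOf_eq_prime (Subtype.ext ?_) fun h => hg1 (Units.ext (congrArg Subtype.val h))
    have h3 := congrArg Units.val hgr
    rw [Units.val_pow_eq_pow_val, Units.val_one] at h3
    exact h3
  · have h4 : rhoSp m F ⟨_, hmem⟩ = lin g := rfl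
    rw [h4, hgd, mul_comm]

/-- **`PSp₂ₘ(q)`, `q`, `m ≥ 4` even, `M ≤ O⁻₂ₘ(q)`.** -/
theorem not_fac_spm (hm : 4 ≤ m) (hme : Even m) (heven : Even (Fintype.card F))
    (hexc : ¬ (Fintype.card F = 2 ∧ m = 6)) {A M : Subgroup (PSp m F)} {S : Type*} [Group S] [Finite S] {l : ℕ}
    (hS : IsSimpleGroup S) (hSna : ¬ IsMulCommutative S) {Q : QuadraticForm F (Fin m ⊕ Fin m → F)}
    (hQ : ¬ IsPlus Q) (hpol : ∀ u v, polar (⇑Q) u v = sympForm m F u v) (hle : pre M ≤ isometryGroup F (⇑Q)) :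
    ¬ Fac (PSp m F) A M S l := by
  intro h
  have h2 : (2 : F) = 0 := two_zero (Nat.not_odd_iff_even.2 heven)
  have h1m : 1 ≤ m := by omega
  have hmk : ∀ x, spmEquiv h1m heven x = (QuotientGroup.mk x : PSp m F) := fun x => rfl
  have h' := h.congr (spmEquiv h1m heven).symm
  have hmem : ∀ x ∈ M.map (spmEquiv h1m heven).symm.toMonoidHom, spToGL m F x ∈ pre M := by
    rintro _ ⟨x, hx, rfl⟩
    rw [mem_pre, ← hmk]
    change spmEquiv h1m heven ((spmEquiv h1m heven).symm x) ∈ M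
    rw [MulEquiv.apply_symm_apply]
    exact hx
  obtain ⟨r, hr⟩ := exists_pp (q := Nat.card F) (e := m) (by have := H884.El.one_lt_q F; omega) (by omega)
    (by rw [Nat.card_eq_fintype_card]; exact hexc)
  refine false_spm (sy_symp (m := m) h2) rp_symp rhoSp_inj hr hme hm ?_ h' hS hSna hpol hQ ?_
    (exists_elt_sp h2 hm hme hr)
  · rw [Module.finrank_fintype_fun_eq_card, H884.El.card_plus]
  · intro x hx v
    rw [rhoSp_apply]
    exact (H925.mem_iso_iff.1 (hle (hmem x hx))) v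

end Cfsg.Agent.H427.Fc
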