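import Cfsg.Agent.Lib.PGroupFixedVector
import Cfsg.Agent.LieClassical.OrthCenter
import Cfsg.Agent.LieClassical.QuadForms

/-!
# S3679, the row `T = Ω⁺8(2)`: subgroups with a normal `2`-subgroup and many elements of order `3` fix a vector
-/

set_option autoImplicit false

namespace Cfsg.Agent.H427.Fc.POne

open Cfsg Module QuadraticMap
open scoped Matrix MatrixGroups

/-- the kernel of a representation over a finite field -/
theorem exists_ker {F W M : Type*} [Field F] [Fintype F] [AddCommGroup W] [Module F W] [FiniteDimensional F W] [Group M]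
    (σ : Representation F M W) {d : ℕ} (hd : finrank F W = d) :
    ∃ K : Subgroup M, K.Normal ∧ (∀ g, g ∈ K ↔ ∀ w, σ g w = w) ∧ K.index ∣ Nat.card (GL (Fin d) F) := by
  refine ⟨(σ.toHomUnits).ker, inferInstance, fun g => ?_, ?_⟩
  · rw [MonoidHom.mem_ker]
    constructor
    · intro h w
      have h1 : ((σ.toHomUnits g : (Module.End F W)ˣ) : Module.End F W) w = w := by rw [h]; rfl
      exact h1
    · intro h
      apply Units.ext
      apply LinearMap.ext
      exact h
  · rw [Subgroup.index_ker]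
    have h1 : Nat.card (Module.End F W)ˣ = Nat.card (GL (Fin d) F) :=
      Nat.card_congr (Units.mapEquiv
        (LinearMap.toMatrixAlgEquiv (finBasisOfFinrankEq F W hd)).toMulEquiv).toEquiv
    rw [← h1]
    exact Subgroup.card_subgroup_dvd_card _

theorem mem_of_index {M : Type*} [Group M] {K : Subgroup M} (hK : K.Normal) (h7 : ¬ 7 ∣ K.index) {x : M}
    (hx : x ^ 7 = 1) : x ∈ K := by
  have h1 : ((x : M ⧸ K)) ^ 7 = 1 := by
    rw [← QuotientGroup.mk_pow, hx, QuotientGroup.mk_one]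
  have h2 : orderOf (x : M ⧸ K) ∣ 7 := orderOf_dvd_of_pow_eq_one h1
  have h3 : orderOf (x : M ⧸ K) ∣ K.index := by
    rw [Subgroup.index_eq_card]
    exact orderOf_dvd_natCard _
  rcases (Nat.dvd_prime (by norm_num : Nat.Prime 7)).1 h2 with h4 | h4
  · rw [orderOf_eq_one_iff] at h4
    exact (QuotientGroup.eq_one_iff x).1 h4
  · exact absurd (h4 ▸ h3) h7

set_option linter.unusedSectionVars false

variable {F V M : Type*} [Field F] [Fintype F] [AddCommGroup V] [Module F V] [FiniteDimensional F V] [Group M]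
  [Finite M]

theorem two_eq (hF : Fintype.card F = 2) : (2 : F) = 0 := by
  have h1 : ((Fintype.card F : ℕ) : F) = 0 := FiniteField.cast_card_eq_zero F
  rw [hF] at h1
  exact_mod_cast h1

theorem all_eq (hF : Fintype.card F = 2) (c : F) : c = 0 ∨ c = 1 := by
  classical
  by_contra hc
  push Not at hc
  have h1 : ({0, 1, c} : Finset F).card = 3 := by
    rw [Finset.card_eq_three]
    exact ⟨0, 1, c, zero_ne_one, hc.1.symm, hc.2.symm, rfl⟩
  have h2 := Finset.card_le_univ ({0, 1, c} : Finset F)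
  omega

theorem add_self' (hF : Fintype.card F = 2) (v : V) : v + v = 0 := by
  rw [← two_smul F v, two_eq hF, zero_smul]

/-- an invariant submodule with a unique nonzero vector -/
theorem fix_of_unique {ρ : Representation F M V} {U : Submodule F V} (hU : ∀ g, ∀ v ∈ U, ρ g v ∈ U) {u : V}
    (hu : u ∈ U) (hu0 : u ≠ 0) (hun : ∀ v ∈ U, v ≠ 0 → v = u) : ∃ v : V, v ≠ 0 ∧ ∀ g : M, ρ g v = v := by
  refine ⟨u, hu0, fun g => hun _ (hU g u hu) ?_⟩
  intro h
  apply hu0
  have h1 : ρ g⁻¹ (ρ g u) = u := by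
    rw [← Module.End.mul_apply, ← map_mul, inv_mul_cancel, map_one]
    rfl
  rw [h, map_zero] at h1
  exact h1.symm

theorem polar_inv {Q : QuadraticForm F V} {ρ : Representation F M V} (hQ : ∀ g v, Q (ρ g v) = Q v) (g : M) (v w : V) :
    polarBilin Q (ρ g v) (ρ g w) = polarBilin Q v w := by
  rw [polarBilin_apply_apply, polarBilin_apply_apply, QuadraticMap.polar, QuadraticMap.polar, ← map_add, hQ, hQ, hQ]

theorem rho_inv {ρ : Representation F M V} (g : M) (v : V) : ρ g (ρ g⁻¹ v) = v := by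
  rw [← Module.End.mul_apply, ← map_mul, mul_inv_cancel, map_one]
  rfl

/-- the orthogonal space of an invariant subspace is invariant -/
theorem orth_inv {Q : QuadraticForm F V} {ρ : Representation F M V} (hQ : ∀ g v, Q (ρ g v) = Q v) {U : Submodule F V}
    (hU : ∀ g, ∀ v ∈ U, ρ g v ∈ U) (g : M) (v : V) (hv : v ∈ LinearMap.BilinForm.orthogonal (polarBilin Q) U) :
    ρ g v ∈ LinearMap.BilinForm.orthogonal (polarBilin Q) U := by
  intro w hw
  have h1 : polarBilin Q (ρ g (ρ g⁻¹ w)) (ρ g v) = 0 := by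
    rw [polar_inv hQ]
    exact hv _ (hU _ _ hw)
  rw [rho_inv] at h1
  exact h1

theorem card_GL_two (hF : Fintype.card F = 2) : Nat.card (GL (Fin 2) F) = 6 := by
  rw [Matrix.card_GL_field, hF]
  decide

theorem card_GL_three (hF : Fintype.card F = 2) : Nat.card (GL (Fin 3) F) = 168 := by
  rw [Matrix.card_GL_field, hF]
  decide

theorem card_GL_four (hF : Fintype.card F = 2) : Nat.card (GL (Fin 4) F) = 20160 := by
  rw [Matrix.card_GL_field, hF]
  simp [Fin.prod_univ_four]

theorem card_GL_zero (hF : Fintype.card F = 2) : Nat.card (GL (Fin 0) F) = 1 := by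
  rw [Matrix.card_GL_field, hF]
  simp

/-- an element acting trivially on the factors of `0 < R < R' < V` has order dividing `4` -/
theorem unip {ρ : Representation F M V} (hρ : Function.Injective ρ) (hF : Fintype.card F = 2) {R P : Submodule F V} {x : M}
    (hx : x ^ 7 = 1) (h1 : ∀ v ∈ R, ρ x v = v) (h2 : ∀ v ∈ P, ρ x v - v ∈ R) (h3 : ∀ v, ρ x v - v ∈ P) : x = 1 := by
  have h4 : ∀ v, ρ (x ^ 4) v = v := by
    intro v
    obtain ⟨a, ha⟩ : ∃ a, a = ρ x v - v := ⟨_, rfl⟩
    obtain ⟨b, hb⟩ : ∃ b, b = ρ x a - a := ⟨_, rfl⟩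
    have haP : a ∈ P := by rw [ha]; exact h3 v
    have hbR : b ∈ R := by rw [hb]; exact h2 a haP
    have e1 : ρ x v = v + a := by rw [ha]; abel
    have e2 : ρ x a = a + b := by rw [hb]; abel
    have e3 : ρ x b = b := h1 b hbR
    have e4 : ρ (x ^ 2) v = v + b := by
      rw [pow_two, map_mul, Module.End.mul_apply, e1, map_add, e1, e2]
      have h5 := add_self' hF a
      calc v + a + (a + b) = v + b + (a + a) := by abel
        _ = v + b := by rw [h5, add_zero]
    have e5 : ρ (x ^ 2) b = b := by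
      rw [pow_two, map_mul, Module.End.mul_apply, e3, e3]
    have e6 : x ^ 4 = x ^ 2 * x ^ 2 := by group
    rw [e6, map_mul, Module.End.mul_apply, e4, map_add, e4, e5, add_assoc, add_self' hF, add_zero]
  have h5 : x ^ 4 = 1 := by
    apply hρ
    rw [map_one]
    exact LinearMap.ext h4
  calc x = (x ^ 4) ^ 2 * (x ^ 7)⁻¹ := by group
    _ = 1 := by rw [h5, hx]; simp

theorem fix_aux (hF : Fintype.card F = 2) (Q : QuadraticForm F V) (hnd : (polarBilin Q).Nondegenerate)
    (h8 : finrank F V = 8) (ρ : Representation F M V) (hρ : Function.Injective ρ) (hQ : ∀ g v, Q (ρ g v) = Q v)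
    {O : Subgroup M} [O.Normal] (h2 : IsPGroup 2 O) (h1 : O ≠ ⊥) (h7 : 7 ∣ Nat.card M) (h49 : ¬ 49 ∣ Nat.card M)
    (h27 : ∀ K : Subgroup M, K.Normal → ¬ 7 ∣ Nat.card K → 27 ∣ K.index) :
    ∃ v : V, v ≠ 0 ∧ ∀ g : M, ρ g v = v := by
  classical
  have h20 := two_eq hF
  haveI : CharP F 2 := CharTwo.of_one_ne_zero_of_two_eq_zero one_ne_zero h20
  haveI : Fact (Nat.Prime 2) := ⟨Nat.prime_two⟩
  have hrefl : (polarBilin Q).IsRefl := by
    intro v w h
    rw [polarBilin_apply_apply] at h ⊢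
    rw [polar_comm]
    exact h
  obtain ⟨V0, hV0⟩ : ∃ V0 : Submodule F V, ∀ v, v ∈ V0 ↔ ∀ g ∈ O, ρ g v = v :=
    ⟨{ carrier := {v | ∀ g ∈ O, ρ g v = v}
       zero_mem' := fun g _ => map_zero _
       add_mem' := fun {a b} ha hb g hg => by rw [map_add, ha g hg, hb g hg]
       smul_mem' := fun c a ha g hg => by rw [map_smul, ha g hg] }, fun v => Iff.rfl⟩
  have hV0i : ∀ g, ∀ v ∈ V0, ρ g v ∈ V0 := by
    intro g v hv
    rw [hV0] at hv ⊢
    intro k hk
    have h3 : k * g = g * (g⁻¹ * k * g) := by group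
    have h4 : g⁻¹ * k * g ∈ O := by
      have := Subgroup.Normal.conj_mem (inferInstance : O.Normal) k hk g⁻¹
      rwa [inv_inv] at this
    rw [← Module.End.mul_apply, ← map_mul, h3, map_mul, Module.End.mul_apply, hv _ h4]
  obtain ⟨P0, hP0⟩ : ∃ P0, P0 = LinearMap.BilinForm.orthogonal (polarBilin Q) V0 := ⟨_, rfl⟩
  have hP0i : ∀ g, ∀ v ∈ P0, ρ g v ∈ P0 := by
    rw [hP0]
    exact fun g v hv => orth_inv hQ hV0i g v hv
  have hP0b : P0 ≠ ⊥ := by
    intro h
    have h3 := LinearMap.BilinForm.finrank_orthogonal hnd V0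
    rw [← hP0, h, finrank_bot] at h3
    have h4 : V0 = ⊤ := Submodule.eq_top_of_finrank_eq (by have := Submodule.finrank_le V0; omega)
    apply h1
    rw [eq_bot_iff]
    intro g hg
    rw [Subgroup.mem_bot]
    apply hρ
    rw [map_one]
    apply LinearMap.ext
    intro v
    exact (hV0 v).1 (h4 ▸ Submodule.mem_top) g hg
  obtain ⟨w0, hw0P, hw00, hw0⟩ := Lib.PGroupFixedVector.exists_mem_ne_zero_fixed_rep h2 (ρ.comp O.subtype) P0
    (fun g v hv => hP0i g v hv) hP0b
  have hw0V : w0 ∈ V0 := (hV0 _).2 fun g hg => hw0 ⟨g, hg⟩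
  -- the radical
  have hpR : ∀ v ∈ V0 ⊓ P0, ∀ w ∈ V0 ⊓ P0, polar Q v w = 0 := by
    intro v hv w hw
    have := hw.2
    rw [hP0] at this
    exact this v hv.1
  obtain ⟨R, hR⟩ : ∃ R : Submodule F V, ∀ v, v ∈ R ↔ (v ∈ V0 ⊓ P0 ∧ Q v = 0) :=
    ⟨{ carrier := {v | v ∈ V0 ⊓ P0 ∧ Q v = 0}
       zero_mem' := ⟨Submodule.zero_mem _, map_zero _⟩
       add_mem' := fun {a b} ha hb => ⟨Submodule.add_mem _ ha.1 hb.1, by
         have h3 := hpR a ha.1 b hb.1
         rw [QuadraticMap.polar, ha.2, hb.2] at h3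
         simpa using h3⟩
       smul_mem' := fun c a ha => ⟨Submodule.smul_mem _ _ ha.1, by rw [QuadraticMap.map_smul, ha.2, smul_zero]⟩ },
      fun v => Iff.rfl⟩
  have hRi : ∀ g, ∀ v ∈ R, ρ g v ∈ R := by
    intro g v hv
    rw [hR] at hv ⊢
    exact ⟨⟨hV0i g v hv.1.1, hP0i g v hv.1.2⟩, by rw [hQ]; exact hv.2⟩
  by_cases hRb : R = ⊥
  · refine fix_of_unique (U := V0 ⊓ P0) (fun g v hv => ⟨hV0i g v hv.1, hP0i g v hv.2⟩) ⟨hw0V, hw0P⟩ hw00 ?_
    intro v hv hv0
    have key : ∀ u ∈ V0 ⊓ P0, u ≠ 0 → Q u = 1 := by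
      intro u hu hu0
      rcases all_eq hF (Q u) with h3 | h3
      · exfalso
        apply hu0
        have : u ∈ R := (hR u).2 ⟨hu, h3⟩
        rw [hRb] at this
        exact this
      · exact h3
    have h3 : v + w0 ∈ R := by
      rw [hR]
      refine ⟨Submodule.add_mem _ hv ⟨hw0V, hw0P⟩, ?_⟩
      have h4 := hpR v hv w0 ⟨hw0V, hw0P⟩
      rw [QuadraticMap.polar, key v hv hv0, key w0 ⟨hw0V, hw0P⟩ hw00] at h4
      linear_combination h4 + h20
    rw [hRb, Submodule.mem_bot] at h3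
    have h4 := add_self' hF w0
    have h5 : v + w0 = w0 + w0 := by rw [h3, h4]
    exact add_right_cancel h5
  by_cases hR1 : finrank F R = 1
  · obtain ⟨u, hu0, hu⟩ := finrank_eq_one_iff'.1 hR1
    refine fix_of_unique (U := R) hRi u.2 (fun h => hu0 (Subtype.ext h)) ?_
    intro v hv hv0
    obtain ⟨c, hc⟩ := hu ⟨v, hv⟩
    rcases all_eq hF c with h3 | h3
    · exfalso
      apply hv0
      have := congrArg Subtype.val hc
      rw [h3] at this
      simpa using this.symm
    · have := congrArg Subtype.val hc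
      rw [h3] at this
      simpa using this.symm
  exfalso
  obtain ⟨P, hP⟩ : ∃ P, P = LinearMap.BilinForm.orthogonal (polarBilin Q) R := ⟨_, rfl⟩
  have hPi : ∀ g, ∀ v ∈ P, ρ g v ∈ P := by
    rw [hP]
    exact fun g v hv => orth_inv hQ hRi g v hv
  have hRP : R ≤ P := by
    intro v hv
    rw [hP]
    intro w hw
    exact hpR w ((hR w).1 hw).1 v ((hR v).1 hv).1
  have hdP : finrank F P = 8 - finrank F R := by
    rw [hP, LinearMap.BilinForm.finrank_orthogonal hnd R, h8]
  have hle : finrank F R ≤ finrank F P := Submodule.finrank_mono hRP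
  have hR0 : finrank F R ≠ 0 := fun h => hRb (Submodule.finrank_eq_zero.1 h)
  -- the two actions
  obtain ⟨r, hr⟩ : ∃ r, finrank F R = r := ⟨_, rfl⟩
  obtain ⟨K1, hK1n, hK1, hK1i⟩ := exists_ker (ρ.subrepresentation R fun g v hv => hRi g v hv) hr
  have hsub : finrank F (↥P ⧸ R.submoduleOf P) = 8 - 2 * r := by
    have h3 := Submodule.finrank_quotient_add_finrank (R.submoduleOf P)
    have h4 : finrank F (R.submoduleOf P) = finrank F R := (Submodule.submoduleOfEquivOfLe hRP).finrank_eq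
    rw [h4] at h3
    omega
  have hinv : ∀ g, R.submoduleOf P ≤ (R.submoduleOf P).comap
      ((ρ.subrepresentation P fun g v hv => hPi g v hv) g) := by
    intro g v hv
    exact hRi g v.1 hv
  obtain ⟨K2, hK2n, hK2, hK2i⟩ := exists_ker ((ρ.subrepresentation P fun g v hv => hPi g v hv).quotient
    (R.submoduleOf P) hinv) hsub
  haveI : Fact (Nat.Prime 7) := ⟨by norm_num⟩
  obtain ⟨x, hx⟩ := exists_prime_orderOf_dvd_card' 7 h7
  have hx7 : x ^ 7 = 1 := by rw [← hx]; exact pow_orderOf_eq_one x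
  have hx1 : x ≠ 1 := by
    intro h
    rw [h, orderOf_one] at hx
    omega
  have hnot : ¬ (x ∈ K1 ∧ x ∈ K2) := by
    rintro ⟨h3, h4⟩
    apply hx1
    refine unip hρ hF (R := R) (P := P) hx7 ?_ ?_ ?_
    · intro v hv
      exact congrArg Subtype.val ((hK1 x).1 h3 ⟨v, hv⟩)
    · intro v hv
      have h5 := (hK2 x).1 h4 (Submodule.Quotient.mk ⟨v, hv⟩)
      rw [Representation.quotient_apply, Submodule.mapQ_apply, Submodule.Quotient.eq] at h5
      exact h5
    · intro v
      rw [hP]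
      intro w hw
      have h5 : ρ x w = w := congrArg Subtype.val ((hK1 x).1 h3 ⟨w, hw⟩)
      have h6 := polar_inv hQ x w v
      rw [h5] at h6
      change polarBilin Q w (ρ x v - v) = 0
      rw [map_sub, h6, sub_self]
  have hmain : ∀ K : Subgroup M, K.Normal → x ∉ K → 27 ∣ K.index := by
    intro K hK hxK
    apply h27 K hK
    intro h3
    have h4 : 7 ∣ K.index := by
      by_contra h4
      exact hxK (mem_of_index hK h4 hx7)
    apply h49
    rw [← K.card_mul_index]
    exact Nat.mul_dvd_mul h3 h4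
  have hr4 : r ≤ 4 := by omega
  interval_cases r
  · exact hR0 hr
  · exact hR1 hr
  · -- `r = 2`
    rw [card_GL_two hF] at hK1i
    have h3 : x ∈ K1 := mem_of_index hK1n (fun h => by have := h.trans hK1i; omega) hx7
    have h4 := hmain K2 hK2n fun h => hnot ⟨h3, h⟩
    rw [show 8 - 2 * 2 = 4 from rfl, card_GL_four hF] at hK2i
    have := h4.trans hK2i
    omega
  · rw [show 8 - 2 * 3 = 2 from rfl, card_GL_two hF] at hK2i
    have h3 : x ∈ K2 := mem_of_index hK2n (fun h => by have := h.trans hK2i; omega) hx7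
    have h4 := hmain K1 hK1n fun h => hnot ⟨h, h3⟩
    rw [card_GL_three hF] at hK1i
    have := h4.trans hK1i
    omega
  · rw [show 8 - 2 * 4 = 0 from rfl, card_GL_zero hF] at hK2i
    have h3 : x ∈ K2 := mem_of_index hK2n (fun h => by have := h.trans hK2i; omega) hx7
    have h4 := hmain K1 hK1n fun h => hnot ⟨h, h3⟩
    rw [card_GL_four hF] at hK1i
    have := h4.trans hK1i
    omega

end Cfsg.Agent.H427.Fc.POne

namespace Cfsg.Agent.H427.Fc

open Cfsg Module QuadraticMap POne LieClassical.QuadForms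
open scoped Matrix MatrixGroups

theorem nondeg_plus {F : Type*} [Field F] (m : ℕ) : (polarBilin (plusForm m F)).Nondegenerate := by
  have h1 : ∀ u, (∀ v, polarBilin (plusForm m F) u v = 0) → u = 0 := fun u h => polar_plusForm_nondeg m u h
  refine ⟨h1, ?_⟩
  intro u h
  apply h1
  intro v
  have := h v
  rw [polarBilin_apply_apply] at this ⊢
  rw [polar_comm]
  exact this

theorem center_plus_bot {F : Type} [Field F] [Fintype F] (hF : Fintype.card F = 2) :
    Subgroup.center (Omega F (quadFormPlus 4 F)) = ⊥ := by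
  have h1 := LieClassical.OrthCenter.center_omega_eq_bot_char_two (Q := plusForm 4 F) (two_eq hF) (nondeg_plus 4)
    (by simp) ⟨Pi.single (Sum.inl 0) 1, by simp, by
      rw [plusForm_apply]
      simp⟩
  rw [coe_plusForm] at h1
  exact h1

/-- (P1) A subgroup of `Ω⁺8(2)` with a nontrivial normal `2`-subgroup, of order divisible by `7` but not by `49`, such that
`27` divides the index of every normal `7'`-subgroup, fixes a nonzero vector. -/
theorem p1 {F : Type} [Field F] [Fintype F] (hF : Fintype.card F = 2) {M : Subgroup (POmega F (quadFormPlus 4 F))}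
    {O : Subgroup M} [O.Normal] (h2 : IsPGroup 2 O) (h1 : O ≠ ⊥) (h7 : 7 ∣ Nat.card M) (h49 : ¬ 49 ∣ Nat.card M)
    (h27 : ∀ K : Subgroup M, K.Normal → ¬ 7 ∣ Nat.card K → 27 ∣ K.index) :
    ∃ v : Fin 4 ⊕ Fin 4 → F, v ≠ 0 ∧ ∀ g : Omega F (quadFormPlus 4 F), (g : POmega F (quadFormPlus 4 F)) ∈ M →
      (((g : isometryGroup F (quadFormPlus 4 F)) : GL (Fin 4 ⊕ Fin 4) F) : Matrix (Fin 4 ⊕ Fin 4) (Fin 4 ⊕ Fin 4) F) *ᵥ v = v := by
  classical
  have hc := center_plus_bot hF
  have hbij : Function.Bijective (QuotientGroup.mk' (Subgroup.center (Omega F (quadFormPlus 4 F)))) := by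
    refine ⟨?_, QuotientGroup.mk'_surjective _⟩
    rw [← MonoidHom.ker_eq_bot_iff, QuotientGroup.ker_mk', hc]
  let e := MulEquiv.ofBijective _ hbij
  let j : Omega F (quadFormPlus 4 F) →* Module.End F (Fin 4 ⊕ Fin 4 → F) :=
    (((Matrix.toLinAlgEquiv' : Matrix (Fin 4 ⊕ Fin 4) (Fin 4 ⊕ Fin 4) F ≃ₐ[F] _).toMulEquiv : _ →* _).comp
      (Units.coeHom (Matrix (Fin 4 ⊕ Fin 4) (Fin 4 ⊕ Fin 4) F))).comp
      ((isometryGroup F (quadFormPlus 4 F)).subtype.comp (Omega F (quadFormPlus 4 F)).subtype)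
  have hj : ∀ g v, j g v = (((g : isometryGroup F (quadFormPlus 4 F)) : GL (Fin 4 ⊕ Fin 4) F) :
      Matrix (Fin 4 ⊕ Fin 4) (Fin 4 ⊕ Fin 4) F) *ᵥ v := fun g v => rfl
  have hjinj : Function.Injective j := by
    intro a b hab
    apply Subtype.ext
    apply Subtype.ext
    apply Units.ext
    exact Matrix.toLinAlgEquiv'.injective hab
  let ρ : Representation F M (Fin 4 ⊕ Fin 4 → F) := (j.comp e.symm.toMonoidHom).comp M.subtype
  obtain ⟨v, hv0, hv⟩ := fix_aux hF (plusForm 4 F) (nondeg_plus 4) (by simp) ρ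
    (hjinj.comp (e.symm.injective.comp M.subtype_injective)) (by
      intro g v
      change plusForm 4 F (j (e.symm g.1) v) = _
      rw [hj, coe_plusForm]
      exact (ClassicalGeometry.Reflection.mem_isometryGroup_iff _ _).1 (e.symm g.1).1.2 v) h2 h1 h7 h49 h27
  refine ⟨v, hv0, fun g hg => ?_⟩
  have h3 := hv ⟨_, hg⟩
  have h4 : e.symm (QuotientGroup.mk g : POmega F (quadFormPlus 4 F)) = g := by
    rw [MulEquiv.symm_apply_eq]
    rfl
  rw [← hj]
  change j (e.symm (QuotientGroup.mk g : POmega F (quadFormPlus 4 F))) v = v at h3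
  rwa [h4] at h3

end Cfsg.Agent.H427.Fc
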