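import Cfsg.Agent.H427.Fc.SpA
import Cfsg.Agent.H899.Pt.Inst
import Cfsg.Agent.H899.Pt.Env

/-!
# `Sp₂ₘ(q)`, `q`, `m ≥ 4` even: factorizations by a subgroup of `O⁻₂ₘ(q)`, I (helper427, S3679)

`T` acts faithfully as the full isometry group of a symplectic space `(V, B)` in characteristic two, `dim V = 2 m`,
`m ≥ 4` even, `r` a prime with `ord_r(q) = m`.

* `exists_orb` : the orbit of a quadratic form;
* `noSq_st` : the stabiliser of a form of minus type has no `C_r × C_r`;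
* `false_small` : the elements of order `r` of the factors are not all of type `m`;
* `exists_q0` : if they are all fixed point free, then `A` fixes a quadratic form.
-/

set_option autoImplicit false
set_option linter.unusedSectionVars false

namespace Cfsg.Agent.H427.Fc

open Module QuadraticMap Cfsg.Agent.H951 Cfsg.Agent.H884.Cg Cfsg.Agent.H955 Cfsg.Agent.LieClassical.OrthCore
open Cfsg.Agent.H954.TSing Cfsg.Agent.H899.Pt Cfsg.Agent.H899.CG
open Cfsg.Agent.H884.El (PP Iso ord_eq)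

section forms

variable {F : Type*} [Field F] {V : Type*} [AddCommGroup V] [Module F V] {B : V → V → F}

theorem qf_of {Q : QuadraticForm F V} (hp : ∀ v w, polar (⇑Q) v w = B v w) : Qf B (⇑Q) where
  smul := fun c v => by rw [QuadraticMap.map_smul, smul_eq_mul]
  polar := fun v w => by
    rw [← hp, QuadraticMap.polar]
    ring

/-- the quadratic form of a function -/
def toQ (hB : Sy B) {Q : V → F} (hQ : Qf B Q) : QuadraticForm F V where
  toFun := Q
  toFun_smul := fun c v => by rw [hQ.smul, smul_eq_mul]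
  exists_companion' := by
    refine ⟨LinearMap.mk₂ F B hB.add (fun c v w => by rw [hB.smul, smul_eq_mul]) hB.add'
      (fun c v w => by rw [hB.smul', smul_eq_mul]), fun x y => ?_⟩
    rw [hQ.polar]
    rfl

theorem toQ_apply (hB : Sy B) {Q : V → F} (hQ : Qf B Q) (v : V) : toQ hB hQ v = Q v := rfl

theorem polar_toQ (hB : Sy B) {Q : V → F} (hQ : Qf B Q) (v w : V) : polar (⇑(toQ hB hQ)) v w = B v w := by
  change Q (v + w) - Q v - Q w = B v w
  rw [hQ.polar]
  ring

theorem nondeg_of_polar (hB : Sy B) {Q : QuadraticForm F V} (hp : ∀ v w, polar (⇑Q) v w = B v w) : Nondeg Q :=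
  fun v h => hB.nd v fun w => by rw [← hp]; exact h w

/-- changing a form by the square of a functional -/
theorem Qf.shift (hB : Sy B) {Q : V → F} (hQ : Qf B Q) (z : V) : Qf B fun v => Q v + B v z * B v z where
  smul := fun c v => by rw [hQ.smul, hB.smul]; ring
  polar := fun v w => by
    rw [hQ.polar, hB.add]
    linear_combination (B v z * B w z) * hB.two

end forms

section orb

variable {T : Type*} [Group T] {F : Type*} [Field F] {V : Type*} [AddCommGroup V] [Module F V] {B : V → V → F}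
  {ρ : T →* Module.End F V}

theorem rho_inv_apply (ρ : T →* Module.End F V) (t : T) (v : V) : ρ t (ρ t⁻¹ v) = v := by
  rw [← Module.End.mul_apply, ← map_mul, mul_inv_cancel, map_one]; rfl

theorem rho_inv_apply' (ρ : T →* Module.End F V) (t : T) (v : V) : ρ t⁻¹ (ρ t v) = v := by
  rw [← Module.End.mul_apply, ← map_mul, inv_mul_cancel, map_one]; rfl

theorem Rp.adj (hR : Rp B ρ) (t : T) (v w : V) : B (ρ t v) w = B v (ρ t⁻¹ w) := by
  conv_lhs => rw [← rho_inv_apply ρ t w]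
  rw [hR.iso]

/-- the stabiliser of a function -/
def St (ρ : T →* Module.End F V) (Q : V → F) : Subgroup T where
  carrier := {t | ∀ v, Q (ρ t v) = Q v}
  mul_mem' := fun {s t} hs ht v => by rw [map_mul, Module.End.mul_apply, hs, ht]
  one_mem' := fun v => by rw [map_one]; rfl
  inv_mem' := fun {s} hs v => by
    have h1 := hs (ρ s⁻¹ v)
    rw [rho_inv_apply] at h1
    exact h1.symm

theorem mem_st {Q : V → F} {t : T} : t ∈ St ρ Q ↔ ∀ v, Q (ρ t v) = Q v := Iff.rfl

/-- **The orbit of a quadratic form.** -/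
theorem exists_orb (hB : Sy B) (hR : Rp B ρ) {Q Q0 : V → F} (hQ : Qf B Q) (h0 : Qf B Q0) {z0 : V}
    (hz : ∀ v, Q v = Q0 v + B v z0 * B v z0) {u : V} {s : F} (hs : Q0 u + Q0 z0 = s * s + s) :
    ∃ t, ∀ v, Q (ρ t v) = Q0 v + B v u * B v u := by
  -- the transvection
  have key : ∀ c : F, c * c * Q (z0 + u) + c = 1 → ∃ t, ∀ v, Q (ρ t v) = Q0 v + B v u * B v u := by
    intro c hc
    obtain ⟨t, ht⟩ := hR.full (hB.tv (z0 + u) c) (hB.tv_iso _ _)
    refine ⟨t, fun v => ?_⟩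
    have h1 : ρ t v = hB.tv (z0 + u) c v := by rw [ht]; rfl
    rw [h1, Qf.tv hB hQ, hc, hz, hB.add']
    linear_combination (B v z0 * B v z0 + B v z0 * B v u) * hB.two
  have h1 : Q (z0 + u) = (s + B u z0) * (s + B u z0) + (s + B u z0) := by
    rw [hz, h0.polar, hB.add, hB.alt, hB.symm z0 u]
    linear_combination hs - (s * B u z0) * hB.two
  by_cases h2 : Q (z0 + u) = 0
  · exact key 1 (by rw [h2]; ring)
  · refine key ((s + B u z0) / Q (z0 + u)) ?_
    have h3 : (s + B u z0) / Q (z0 + u) * ((s + B u z0) / Q (z0 + u)) * Q (z0 + u) + (s + B u z0) / Q (z0 + u) =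
        ((s + B u z0) * (s + B u z0) + (s + B u z0)) / Q (z0 + u) := by
      field_simp
    rw [h3, ← h1, div_self h2]

/-- `A` is transitive on the orbit -/
theorem exists_a {A M : Subgroup T} (hAM : ∀ t : T, ∃ a ∈ A, ∃ m ∈ M, t = a * m) {Q : V → F}
    (hM : ∀ m ∈ M, ∀ v, Q (ρ m v) = Q v) (t : T) : ∃ a ∈ A, ∀ v, Q (ρ t v) = Q (ρ a v) := by
  obtain ⟨a, ha, m, hm, h⟩ := hAM t⁻¹
  refine ⟨a⁻¹, A.inv_mem ha, fun v => ?_⟩
  have h1 : t = m⁻¹ * a⁻¹ := by rw [← mul_inv_rev, ← h, inv_inv]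
  rw [h1, map_mul, Module.End.mul_apply, hM _ (M.inv_mem hm)]

end orb

section main

variable {T : Type*} [Group T] {F : Type*} [Field F] [Fintype F] {V : Type*} [AddCommGroup V] [Module F V]
  [FiniteDimensional F V] {B : V → V → F} {ρ : T →* Module.End F V} {r m : ℕ}

/-- a power of an isometry of order `r` which is fixed point free on `V`, `dim V = 2 m`: plus type -/
theorem isPlus_of_cm (hr : PP (Nat.card F) m r) (hme : Even m) (hm : 4 ≤ m) (hd : finrank F V = 2 * m)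
    {Q : QuadraticForm F V} (hQ : Nondeg Q) {x : Module.End F V} (hx : x ^ r = 1) (hiso : ∀ v, Q (x v) = Q v)
    (hcm : 2 * m ≤ finrank F (cm x)) : IsPlus Q := by
  have h1 : cm x = ⊤ := Submodule.eq_top_of_finrank_eq (le_antisymm (Submodule.finrank_le _) (by rw [hd]; exact hcm))
  have hI : Iso Q x r := Iso.mk' hr (by omega) hx hiso
  have h2 := hI.even_two hQ hr hme (by rw [h1, finrank_top, hd, mul_comm])
  rw [h1] at h2
  exact (isPlus_iff_of_equiv (Submodule.topEquiv) fun _ => rfl).1 h2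

theorem rd_of (hr : PP (Nat.card F) m r) (hm : 4 ≤ m) : RD F r m :=
  ⟨hr.prime, by have := hr.lt (by omega); omega, hr.ne0 (by omega), ord_eq hr⟩

/-- the stabiliser of a form of minus type -/
theorem noSq_st [Finite T] (hB : Sy B) (hinj : Function.Injective ρ) (hr : PP (Nat.card F) m r) (hme : Even m)
    (hm : 4 ≤ m) (hd : finrank F V = 2 * m) {Q : QuadraticForm F V} (hp : ∀ v w, polar (⇑Q) v w = B v w)
    (hQ : ¬ IsPlus Q) : NoSq (St ρ (⇑Q)) r := by
  intro x hx y hy hxr hyr hc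
  by_contra hcon
  have hrd := rd_of (F := F) hr hm
  have hx1 : ρ x ^ r = 1 := by rw [← map_pow, ← hxr, pow_orderOf_eq_one, map_one]
  have hy1 : ρ y ^ r = 1 := by rw [← map_pow, ← hyr, pow_orderOf_eq_one, map_one]
  have hcc : Commute (ρ y) (ρ x) := by
    show ρ y * ρ x = ρ x * ρ y
    rw [← map_mul, ← hc, map_mul]
  obtain ⟨i, j, hij⟩ := hrd.exists_big hy1 hx1 hcc (fun h => by
    have h1 : x = 1 := hinj (by rw [h, map_one])
    rw [h1, orderOf_one] at hxr
    exact hr.prime.one_lt.ne hxr) (fun i h => by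
    apply hcon
    rw [← map_pow, ← map_mul] at h
    have h1 : y * x ^ i = 1 := hinj (by rw [h, map_one])
    rw [mul_eq_one_iff_eq_inv.1 h1]
    exact inv_mem (pow_mem (Subgroup.mem_zpowers x) i))
  apply hQ
  refine isPlus_of_cm hr hme hm hd (nondeg_of_polar hB hp) (pow_mul_pow_r hy1 hx1 hcc i j) ?_ hij
  intro v
  have h1 : y ^ i * x ^ j ∈ St ρ (⇑Q) := mul_mem (pow_mem hy i) (pow_mem hx j)
  have h2 := h1 v
  rwa [map_mul, map_pow, map_pow] at h2

/-- an element with a nondegenerate fixed space of dimension at least three fixes a form of the orbit -/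
theorem exists_fix (hB : Sy B) (hR : Rp B ρ) (hr : PP (Nat.card F) m r) (hm : 4 ≤ m) {Q : V → F} (hQ : Qf B Q)
    {x : T} (hx : x ^ r = 1) (h3 : 3 ≤ finrank F (fx (ρ x))) : ∃ t, ∀ v, Q (ρ t (ρ x v)) = Q (ρ t v) := by
  have hodd : Odd r := hr.odd (by omega)
  have hxr : ρ x ^ r = 1 := by rw [← map_pow, hx, map_one]
  obtain ⟨Q0, h0, h0x⟩ := exists_avg hB hQ (hR.iso x) hodd hxr
  obtain ⟨z0, hz⟩ := Qf.diff hB h0 hQ
  have hnd : Nondeg (toQ hB h0) := nondeg_of_polar hB (polar_toQ hB h0)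
  have hne := hr.ne0 (F := F) (by omega)
  obtain ⟨u, hu, -, hu0⟩ := exists_norm_mem (nondeg_fx hnd h0x hne hxr) h3 (Q0 z0)
  have hu0' : Q0 u = Q0 z0 := hu0
  obtain ⟨t, ht⟩ := exists_orb hB hR hQ h0 hz (u := u) (s := 0) (by rw [hu0', add_self hB.two]; ring)
  refine ⟨t, fun v => ?_⟩
  have h4 : B (ρ x v) u = B v u := by
    have h5 := hR.iso x v u
    rwa [mem_fx.1 hu] at h5
  rw [ht, ht, h0x, h4]

theorem conj_fix {Q : V → F} {a x : T} (h : ∀ v, Q (ρ a (ρ x v)) = Q (ρ a v)) : a * x * a⁻¹ ∈ St ρ Q := by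
  intro v
  rw [map_mul, map_mul, Module.End.mul_apply, Module.End.mul_apply, h, rho_inv_apply]

/-- **small elements** -/
theorem false_small [Finite T] (hB : Sy B) (hR : Rp B ρ) (hinj : Function.Injective ρ) (hr : PP (Nat.card F) m r)
    (hme : Even m) (hm : 4 ≤ m) (hd : finrank F V = 2 * m) {A M S₁ S₂ : Subgroup T}
    (hAM : ∀ t : T, ∃ a ∈ A, ∃ m ∈ M, t = a * m) (hS : TwoFac A S₁ S₂) {Q : QuadraticForm F V}
    (hp : ∀ v w, polar (⇑Q) v w = B v w) (hQ : ¬ IsPlus Q) (hM : ∀ m ∈ M, ∀ v, Q (ρ m v) = Q v) {x y : T}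
    (hx : x ∈ S₂) (hxr : orderOf x = r) (hxd : finrank F (cm (ρ x)) = m) (hy : y ∈ S₁) (hyr : orderOf y = r)
    (hyd : finrank F (cm (ρ y)) = m) : False := by
  have hne := hr.ne0 (F := F) (by omega)
  have key : ∀ x : T, orderOf x = r → finrank F (cm (ρ x)) = m → ∃ a ∈ A, a * x * a⁻¹ ∈ St ρ (⇑Q) := by
    intro x hxr hxd
    have hx1 : x ^ r = 1 := by rw [← hxr, pow_orderOf_eq_one]
    have h1 := finrank_fx_add_cm hne (x := ρ x) (by rw [← map_pow, hx1, map_one])
    obtain ⟨t, ht⟩ := exists_fix hB hR hr hm (qf_of hp) hx1 (by omega)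
    obtain ⟨a, ha, hat⟩ := exists_a hAM hM t
    exact ⟨a, ha, conj_fix fun v => by rw [← hat, ← hat]; exact ht v⟩
  have hoc : ∀ a x : T, orderOf (a * x * a⁻¹) = orderOf x := fun a x => by
    rw [← MulAut.conj_apply]; exact orderOf_injective (MulAut.conj a).toMonoidHom (MulAut.conj a).injective x
  obtain ⟨a, ha, hax⟩ := key x hxr hxd
  obtain ⟨b, hb, hby⟩ := key y hyr hyd
  have h1 := hS.norm₂ a ha x hx
  have h2 := hS.norm₁ b hb y hy
  have h3 := noSq_st hB hinj hr hme hm hd hp hQ _ hax _ hby (by rw [hoc, hxr]) (by rw [hoc, hyr])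
    (hS.comm _ h2 _ h1).symm
  have h4 : b * y * b⁻¹ ∈ S₂ := (Subgroup.zpowers_le.2 h1) h3
  have h5 := hS.inf h2 h4
  have h6 : orderOf (b * y * b⁻¹) = r := by rw [hoc, hyr]
  rw [h5, orderOf_one] at h6
  exact hr.prime.one_lt.ne h6

/-- **fixed point free elements**: `A` fixes a quadratic form -/
theorem exists_q0 (hB : Sy B) (hR : Rp B ρ) (hr : PP (Nat.card F) m r) (hm : 4 ≤ m) {A S₁ S₂ : Subgroup T}
    (hS : TwoFac A S₁ S₂) {Q : V → F} (hQ : Qf B Q) {x y : T} (hx : x ∈ S₂) (hxr : x ^ r = 1) (hfx : fx (ρ x) = ⊥)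
    (hy : y ∈ S₁) (hfy : fx (ρ y) = ⊥) : ∃ Q0 : V → F, Qf B Q0 ∧ ∀ a ∈ A, ∀ v, Q0 (ρ a v) = Q0 v := by
  have hodd : Odd r := hr.odd (by omega)
  obtain ⟨Q0, h0, h0x⟩ := exists_avg hB hQ (hR.iso x) hodd (by rw [← map_pow, hxr, map_one])
  have hcomp : ∀ s : T, Qf B fun v => Q0 (ρ s v) := fun s =>
    ⟨fun c v => by rw [map_smul, h0.smul], fun v w => by rw [map_add, h0.polar, hR.iso]⟩
  -- everything which commutes with `z` fixes `Q0` if `z` fixes `Q0` and is fixed point free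
  have key : ∀ z s : T, z * s = s * z → (∀ v, Q0 (ρ z v) = Q0 v) → fx (ρ z) = ⊥ → ∀ v, Q0 (ρ s v) = Q0 v := by
    intro z s hzs hz hfz v
    refine (qf_unique hB h0 (hcomp s) (hR.iso z) hz (fun v => ?_) hfz v).symm
    rw [← Module.End.mul_apply, ← map_mul, ← hzs, map_mul, Module.End.mul_apply, hz]
  have hy0 : ∀ v, Q0 (ρ y v) = Q0 v := key x y (hS.comm _ hy _ hx).symm h0x hfx
  refine ⟨Q0, h0, fun a ha v => ?_⟩
  obtain ⟨s, hs, a', ha', rfl, hc⟩ := hS.dec₁ a ha
  rw [map_mul, Module.End.mul_apply, key x s (hS.comm _ hs _ hx).symm h0x hfx, key y a' (hc y hy) hy0 hfy]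

end main

end Cfsg.Agent.H427.Fc
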