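import Cfsg.Agent.H427.Fc.Sm

/-!
# `Sp₂ₘ(q)`, `q`, `m ≥ 4` even: factorizations by a subgroup of `O⁻₂ₘ(q)`, II (helper427, S3679)

* `false_f2` : `|F| = 2` and `A` fixes a quadratic form: contradiction;
* `false_spm` : no factorization `T = A M`, `A ≅ S ^ l`, `M ≤ O⁻₂ₘ(q)`.
-/

set_option autoImplicit false
set_option linter.unusedSectionVars false

namespace Cfsg.Agent.H427.Fc

open Module QuadraticMap Cfsg.Agent.H951 Cfsg.Agent.H884.Cg Cfsg.Agent.H955 Cfsg.Agent.LieClassical.OrthCore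
open Cfsg.Agent.H954.TSing Cfsg.Agent.H899.Pt Cfsg.Agent.H899.CG
open Cfsg.Agent.H884.El (PP Iso ord_eq)

theorem twoFac_sub {T : Type*} [Group T] {A S₁ S₂ : Subgroup T} (h : TwoFac A S₁ S₂) :
    TwoFac (⊤ : Subgroup A) (S₁.subgroupOf A) (S₂.subgroupOf A) := by
  have h1 := h.simple₁
  have h2 := h.simple₂
  refine ⟨le_top, le_top, (Subgroup.subgroupOfEquivOfLe h.le₁).isSimpleGroup,
    (Subgroup.subgroupOfEquivOfLe h.le₂).isSimpleGroup, fun hc => h.na₁ fun a ha b hb => ?_,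
    fun hc => h.na₂ fun a ha b hb => ?_, fun a ha b hb => ?_, fun a _ s hs => ?_, fun a _ s hs => ?_,
    fun a _ => ?_, fun a _ => ?_⟩
  · exact congrArg Subtype.val (hc ⟨a, h.le₁ ha⟩ (Subgroup.mem_subgroupOf.2 ha) ⟨b, h.le₁ hb⟩
      (Subgroup.mem_subgroupOf.2 hb))
  · exact congrArg Subtype.val (hc ⟨a, h.le₂ ha⟩ (Subgroup.mem_subgroupOf.2 ha) ⟨b, h.le₂ hb⟩
      (Subgroup.mem_subgroupOf.2 hb))
  · exact Subtype.ext (h.comm _ (Subgroup.mem_subgroupOf.1 ha) _ (Subgroup.mem_subgroupOf.1 hb))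
  · exact Subgroup.mem_subgroupOf.2 (h.norm₁ a a.2 s (Subgroup.mem_subgroupOf.1 hs))
  · exact Subgroup.mem_subgroupOf.2 (h.norm₂ a a.2 s (Subgroup.mem_subgroupOf.1 hs))
  · obtain ⟨s, hs, a', ha', he, hc⟩ := h.dec₁ a a.2
    exact ⟨⟨s, h.le₁ hs⟩, Subgroup.mem_subgroupOf.2 hs, ⟨a', ha'⟩, trivial, Subtype.ext he,
      fun t ht => Subtype.ext (hc t (Subgroup.mem_subgroupOf.1 ht))⟩
  · obtain ⟨s, hs, a', ha', he, hc⟩ := h.dec₂ a a.2
    exact ⟨⟨s, h.le₂ hs⟩, Subgroup.mem_subgroupOf.2 hs, ⟨a', ha'⟩, trivial, Subtype.ext he,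
      fun t ht => Subtype.ext (hc t (Subgroup.mem_subgroupOf.1 ht))⟩

section main

variable {T : Type*} [Group T] {F : Type*} [Field F] [Fintype F] {V : Type*} [AddCommGroup V] [Module F V]
  [FiniteDimensional F V] {B : V → V → F} {ρ : T →* Module.End F V} {r m : ℕ}

theorem Sy.ext_right (hB : Sy B) {u w : V} (h : ∀ v, B v u = B v w) : u = w := by
  have h1 : u - w = 0 := by
    refine hB.nd _ fun v => ?_
    rw [hB.sub_eq, hB.add, hB.symm u, hB.symm w, h]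
    exact add_self hB.two _
  exact sub_eq_zero.1 h1

theorem false_f2 [Finite T] (hB : Sy B) (hR : Rp B ρ) (hinj : Function.Injective ρ) (hr : PP (Nat.card F) m r)
    (hm : 4 ≤ m) (hd : finrank F V = 2 * m) {A M S₁ S₂ : Subgroup T} (hAM : ∀ t : T, ∃ a ∈ A, ∃ m ∈ M, t = a * m)
    (hS : TwoFac A S₁ S₂) (hd₁ : r ∣ Nat.card S₁) (hd₂ : r ∣ Nat.card S₂) {Q Q0 : V → F} (hQ : Qf B Q)
    (h0 : Qf B Q0) (hM : ∀ m ∈ M, ∀ v, Q (ρ m v) = Q v) (hA : ∀ a ∈ A, ∀ v, Q0 (ρ a v) = Q0 v)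
    (h2 : Nat.card F = 2) : False := by
  have hF : ∀ c : F, c = 0 ∨ c = 1 := by
    obtain ⟨y, hy, hyu⟩ := (Nat.card_eq_two_iff' (0 : F)).1 h2
    intro c
    by_cases hc : c = 0
    · exact Or.inl hc
    · right
      rw [hyu c hc, hyu 1 one_ne_zero]
  obtain ⟨z0, hz⟩ := Qf.diff hB h0 hQ
  have hnd : Nondeg (toQ hB h0) := nondeg_of_polar hB (polar_toQ hB h0)
  -- `Q ∘ a = Q₀ + B(·, u)²` gives `a⁻¹ z₀ = u`
  have key : ∀ u : V, (∃ t, ∀ v, Q (ρ t v) = Q0 v + B v u * B v u) → ∃ a ∈ A, ρ a z0 = u := by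
    rintro u ⟨t, ht⟩
    obtain ⟨a, ha, hat⟩ := exists_a hAM hM t
    refine ⟨a⁻¹, A.inv_mem ha, hB.ext_right fun v => ?_⟩
    apply sq_inj hB.two
    have h1 := ht v
    rw [hat, hz, hA a ha, hR.adj] at h1
    exact add_left_cancel h1
  have hz1 : Q0 z0 = 1 := by
    rcases hF (Q0 z0) with h1 | h1
    · exfalso
      obtain ⟨w, hw0, hw⟩ := exists_singular (toQ hB h0) (by omega : 3 ≤ finrank F V)
      have hw' : Q0 w = 0 := hw
      obtain ⟨a, -, ha⟩ := key 0 (exists_orb hB hR hQ h0 hz (s := 0) (by rw [h0.zero, h1]; ring))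
      obtain ⟨b, -, hb⟩ := key w (exists_orb hB hR hQ h0 hz (s := 0) (by rw [hw', h1]; ring))
      have hz00 : z0 = 0 := by
        have h3 := congrArg (ρ a⁻¹) ha
        rwa [rho_inv_apply', map_zero] at h3
      rw [hz00, map_zero] at hb
      exact hw0 hb.symm
    · exact h1
  have htr : ∀ u, Q0 u = 1 → ∃ a ∈ A, ρ a z0 = u := fun u hu =>
    key u (exists_orb hB hR hQ h0 hz (s := 0) (by rw [hu, hz1]; linear_combination hB.two))
  have hcfg : Cfg (toQ hB h0) 1 r m (MonoidHom.id A) (ρ.comp A.subtype) (⊤ : Subgroup A) := by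
    refine ⟨rd_of hr hm, by omega, fun x => ⟨x, rfl⟩, fun k hk => ?_, fun a b hab => Subtype.ext (hinj hab),
      fun g v => hA g g.2 v, hnd, fun v w hv hw => ?_, one_ne_zero, hd.ge,
      fun Z hZ h3 d => exists_norm_mem hZ h3 d, fun z hz hcm w hw hzw => ?_⟩
    · have hk' : k = 1 := hk
      rw [hk']
      exact ⟨one_pow 2, fun g => by rw [one_mul, mul_one]⟩
    · obtain ⟨a, ha, hav⟩ := htr v hv
      obtain ⟨b, hb, hbw⟩ := htr w hw
      refine ⟨⟨b, hb⟩ * ⟨a, ha⟩⁻¹, trivial, Or.inl ?_⟩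
      show ρ (b * a⁻¹) v = w
      rw [map_mul, Module.End.mul_apply, ← hav, rho_inv_apply', hbw]
    · have h1 : cm ((ρ.comp A.subtype) z) = ⊤ :=
        Submodule.eq_top_of_finrank_eq (le_antisymm (Submodule.finrank_le _) (by rw [hd]; exact hcm))
      have h3 := (isCompl_fx_cm (hr.ne0 (F := F) (by omega)) (x := (ρ.comp A.subtype) z)
        (by rw [← map_pow, hz, map_one])).inf_eq_bot
      rw [h1, inf_top_eq] at h3
      have h4 : w ∈ fx ((ρ.comp A.subtype) z) := mem_fx.2 hzw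
      rw [h3, Submodule.mem_bot] at h4
      rw [h4, QuadraticMap.map_zero] at hw
      exact zero_ne_one hw
  have hc : ∀ {S' : Subgroup T} (_ : S' ≤ A), Nat.card (S'.subgroupOf A) = Nat.card S' := fun hle =>
    Nat.card_congr (Subgroup.subgroupOfEquivOfLe hle).toEquiv
  exact hcfg.false_even (twoFac_sub hS) hd (by rw [hc hS.le₁]; exact hd₁) (by rw [hc hS.le₂]; exact hd₂)

/-- **No factorization with `M ≤ O⁻₂ₘ(q)`.** -/
theorem false_spm [Finite T] (hB : Sy B) (hR : Rp B ρ) (hinj : Function.Injective ρ) (hr : PP (Nat.card F) m r)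
    (hme : Even m) (hm : 4 ≤ m) (hd : finrank F V = 2 * m) {A M : Subgroup T} {S : Type*} [Group S] [Finite S]
    {l : ℕ} (hf : Fac T A M S l) (hS : IsSimpleGroup S) (hSna : ¬ IsMulCommutative S) {Q : QuadraticForm F V}
    (hp : ∀ v w, polar (⇑Q) v w = B v w) (hQ : ¬ IsPlus Q) (hM : ∀ m ∈ M, ∀ v, Q (ρ m v) = Q v)
    (hx : ∃ x : T, orderOf x = r ∧ finrank F (cm (ρ x)) = 2 * m) : False := by
  have hprime := Fact.mk hr.prime
  have hne := hr.ne0 (F := F) (by omega)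
  have hrS : r ∣ Nat.card S := by
    by_contra hn
    have hidx : ¬ r ∣ M.index := fun h => hn (hr.prime.dvd_of_dvd_pow (h.trans hf.index_dvd))
    obtain ⟨x, hxr, hxd⟩ := hx
    obtain ⟨t, ht⟩ := exists_conj_mem hr.prime hidx hxr
    have hx1 : x ^ r = 1 := by rw [← hxr, pow_orderOf_eq_one]
    have hz : (t⁻¹ * x * t) ^ r = 1 := by
      have : t⁻¹ * x * t = t⁻¹ * x * t⁻¹⁻¹ := by rw [inv_inv]
      rw [this, conj_pow, hx1, mul_one, mul_inv_cancel]
    have hzr : ρ (t⁻¹ * x * t) ^ r = 1 := by rw [← map_pow, hz, map_one]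
    have hfx : fx (ρ x) = ⊥ := by
      have h1 := finrank_fx_add_cm hne (x := ρ x) (by rw [← map_pow, hx1, map_one])
      exact Submodule.finrank_eq_zero.1 (by omega)
    have hfz : fx (ρ (t⁻¹ * x * t)) = ⊥ := by
      rw [eq_bot_iff]
      intro v hv
      have h1 : ρ t⁻¹ (ρ x (ρ t v)) = v := by
        have := mem_fx.1 hv
        rwa [map_mul, map_mul] at this
      have h2 : ρ t v ∈ fx (ρ x) := by
        rw [mem_fx]
        have h3 := congrArg (ρ t) h1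
        rwa [rho_inv_apply] at h3
      rw [hfx, Submodule.mem_bot] at h2
      have h3 := congrArg (ρ t⁻¹) h2
      rw [rho_inv_apply', map_zero] at h3
      rw [h3]
      exact Submodule.zero_mem _
    apply hQ
    refine isPlus_of_cm hr hme hm hd (nondeg_of_polar hB hp) hzr (hM _ ht) ?_
    have h1 := finrank_fx_add_cm hne hzr
    rw [hfz, finrank_bot] at h1
    omega
  obtain ⟨S₁, S₂, hT, hc1, hc2⟩ := hf.twoFac hS hSna
  have hd₁ : r ∣ Nat.card S₁ := by rw [hc1]; exact hrS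
  have hd₂ : r ∣ Nat.card S₂ := by rw [hc2]; exact hrS
  obtain ⟨x₀, hx₀⟩ := exists_prime_orderOf_dvd_card' r hd₂
  obtain ⟨y₀, hy₀⟩ := exists_prime_orderOf_dvd_card' r hd₁
  rw [← Subgroup.orderOf_coe] at hx₀ hy₀
  have hne1 : ∀ {z : T}, orderOf z = r → z ^ r = 1 ∧ z ≠ 1 := by
    intro z hz
    refine ⟨by rw [← hz, pow_orderOf_eq_one], ?_⟩
    rintro rfl
    rw [orderOf_one] at hz
    exact hr.prime.one_lt.ne hz
  have henv : Env r m (MonoidHom.id T) ρ := by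
    refine ⟨rd_of hr hm, by omega, fun x => ⟨x, rfl⟩, fun k hk => ?_, hinj, by omega⟩
    have hk' : k = 1 := hk
    rw [hk']
    exact ⟨one_pow 2, fun g => by rw [one_mul, mul_one]⟩
  rcases henv.dich hT hd₁ hd₂ with h | h
  · exact false_small hB hR hinj hr hme hm hd hf.fac hT hp hQ hM x₀.2 hx₀
      (h _ (Or.inr x₀.2) (hne1 hx₀).1 (hne1 hx₀).2) y₀.2 hy₀ (h _ (Or.inl y₀.2) (hne1 hy₀).1 (hne1 hy₀).2)
  · have hfx : ∀ z : T, z ^ r = 1 → finrank F (cm (ρ z)) = 2 * m → fx (ρ z) = ⊥ := by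
      intro z hz hzd
      have h1 := finrank_fx_add_cm hne (x := ρ z) (by rw [← map_pow, hz, map_one])
      exact Submodule.finrank_eq_zero.1 (by omega)
    obtain ⟨Q0, h0, hA⟩ := exists_q0 hB hR hr hm hT (qf_of hp) x₀.2 (hne1 hx₀).1
      (hfx _ (hne1 hx₀).1 (h _ (Or.inr x₀.2) (hne1 hx₀).1 (hne1 hx₀).2)) y₀.2
      (hfx _ (hne1 hy₀).1 (h _ (Or.inl y₀.2) (hne1 hy₀).1 (hne1 hy₀).2))
    by_cases h3 : 3 ≤ Nat.card F
    · exact false_two_quad hB hR hf.fac h0 (qf_of hp) hA hM h3 (by omega)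
    · have h4 : 2 ≤ Nat.card F := by
        have := Nat.card_eq_fintype_card (α := F)
        have := Fintype.one_lt_card (α := F)
        omega
      exact false_f2 hB hR hinj hr hm hd hf.fac hT hd₁ hd₂ (qf_of hp) h0 hM hA (by omega)

end main

end Cfsg.Agent.H427.Fc
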