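import Cfsg.Agent.H427.Fc.SpH

/-!
# Commuting copies of a simple group in `Sp₄(F)`, `F` finite of characteristic two (helper427, S3679)

`Fam B φ` : commuting faithful isometric actions `φ i : S → End V`, `S` non-abelian simple, at least two of them.

* `Fam.plane` : if an element of odd prime order has a fixed vector, then `V = W ⊥ U`, both planes invariant;
* `Fam.quad` : otherwise there is an invariant quadratic form, and the commutator spaces of the involutions are totally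
  singular planes.
-/

set_option autoImplicit false
set_option linter.unusedSectionVars false

namespace Cfsg.Agent.H427.Fc

open Module Cfsg.Agent.H951

variable {F : Type*} [Field F] {V : Type*} [AddCommGroup V] [Module F V] {B : V → V → F}

section kr

variable {S : Type*} [Group S]

/-- the kernel of the action on an invariant subspace -/
def kr (ψ : S →* Module.End F V) (U : Submodule F V) : Subgroup S where
  carrier := {t | ∀ u ∈ U, ψ t u = u}
  mul_mem' := fun {s t} hs ht u hu => by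
    rw [map_mul, Module.End.mul_apply, ht u hu, hs u hu]
  one_mem' := fun u _ => by rw [map_one]; rfl
  inv_mem' := fun {s} hs u hu => by
    have h1 : ψ s u = u := hs u hu
    calc ψ s⁻¹ u = ψ s⁻¹ (ψ s u) := by rw [h1]
      _ = u := by rw [← Module.End.mul_apply, ← map_mul, inv_mul_cancel, map_one]; rfl

theorem mem_kr {ψ : S →* Module.End F V} {U : Submodule F V} {t : S} : t ∈ kr ψ U ↔ ∀ u ∈ U, ψ t u = u := Iff.rfl

theorem kr_normal {ψ : S →* Module.End F V} {U : Submodule F V} (hU : ∀ t, ∀ u ∈ U, ψ t u ∈ U) : (kr ψ U).Normal := by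
  refine ⟨fun n hn g u hu => ?_⟩
  rw [map_mul, map_mul, Module.End.mul_apply, Module.End.mul_apply, hn _ (hU g⁻¹ u hu), ← Module.End.mul_apply,
    ← map_mul, mul_inv_cancel, map_one]
  rfl

theorem kr_eq_top (hS : IsSimpleGroup S) (hSna : ¬ IsMulCommutative S) {ψ : S →* Module.End F V} {U : Submodule F V}
    (hU : ∀ t, ∀ u ∈ U, ψ t u ∈ U) (hc : ∀ s t, ∀ u ∈ U, ψ s (ψ t u) = ψ t (ψ s u)) (t : S) : ∀ u ∈ U, ψ t u = u := by
  rcases hS.eq_bot_or_eq_top_of_normal (kr ψ U) (kr_normal hU) with h | h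
  · exfalso
    apply hSna
    refine ⟨⟨fun a b => ?_⟩⟩
    have h1 : (b * a)⁻¹ * (a * b) ∈ kr ψ U := by
      intro u hu
      rw [map_mul, Module.End.mul_apply, map_mul ψ a b, Module.End.mul_apply, hc a b u hu, ← Module.End.mul_apply,
        ← map_mul, ← Module.End.mul_apply, ← map_mul]
      have h2 : (b * a)⁻¹ * b * a = 1 := by group
      rw [h2, map_one]
      rfl
    rw [h, Subgroup.mem_bot, inv_mul_eq_one] at h1
    exact h1.symm
  · have : t ∈ kr ψ U := by rw [h]; trivial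
    exact this

theorem kr_eq_top' (hS : IsSimpleGroup S) {ψ : S →* Module.End F V} {U : Submodule F V}
    (hU : ∀ t, ∀ u ∈ U, ψ t u ∈ U) {s : S} (hs : s ≠ 1) (hsU : ∀ u ∈ U, ψ s u = u) (t : S) : ∀ u ∈ U, ψ t u = u := by
  rcases hS.eq_bot_or_eq_top_of_normal (kr ψ U) (kr_normal hU) with h | h
  · exfalso
    apply hs
    have : s ∈ kr ψ U := hsU
    rwa [h, Subgroup.mem_bot] at this
  · have : t ∈ kr ψ U := by rw [h]; trivial
    exact this

end kr

/-- a plane is spanned by two independent vectors -/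
theorem plane_span [FiniteDimensional F V] {W : Submodule F V} (hW : finrank F W = 2) {e f : V} (he : e ∈ W)
    (hf : f ∈ W) (he0 : e ≠ 0) (hi : ∀ c : F, f ≠ c • e) {w : V} (hw : w ∈ W) : ∃ a b : F, w = a • e + b • f := by
  have hspan : W = (F ∙ e) ⊔ (F ∙ f) := by
    symm
    apply Submodule.eq_of_le_of_finrank_le
    · rw [sup_le_iff, Submodule.span_singleton_le_iff_mem, Submodule.span_singleton_le_iff_mem]
      exact ⟨he, hf⟩
    · rw [hW]
      by_contra hlt
      have h6 : finrank F ↥((F ∙ e) ⊔ (F ∙ f)) ≤ 1 := by omega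
      have h7 : (F ∙ e) = (F ∙ e) ⊔ (F ∙ f) := Submodule.eq_of_le_of_finrank_le le_sup_left
        (by rw [finrank_span_singleton he0]; exact h6)
      have h8 : f ∈ F ∙ e := by rw [h7]; exact Submodule.mem_sup_right (Submodule.mem_span_singleton_self f)
      obtain ⟨c, hc⟩ := Submodule.mem_span_singleton.1 h8
      exact hi c hc.symm
  rw [hspan] at hw
  obtain ⟨x1, hx1, x2, hx2, rfl⟩ := Submodule.mem_sup.1 hw
  obtain ⟨p, rfl⟩ := Submodule.mem_span_singleton.1 hx1
  obtain ⟨q, rfl⟩ := Submodule.mem_span_singleton.1 hx2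
  exact ⟨p, q, rfl⟩

theorem two_le_of_indep [FiniteDimensional F V] {W : Submodule F V} {e f : V} (he : e ∈ W)
    (hf : f ∈ W) (he0 : e ≠ 0) (hi : ∀ c : F, f ≠ c • e) : 2 ≤ finrank F W := by
  by_contra hlt
  have h6 : finrank F W ≤ 1 := by omega
  have h7 : (F ∙ e) = W := Submodule.eq_of_le_of_finrank_le
    (by rw [Submodule.span_singleton_le_iff_mem]; exact he) (by rw [finrank_span_singleton he0]; exact h6)
  have h8 : f ∈ F ∙ e := by rw [h7]; exact hf
  obtain ⟨c, hc⟩ := Submodule.mem_span_singleton.1 h8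
  exact hi c hc.symm

theorem Sy.ne_smul (hB : Sy B) {e f : V} (hef : B e f = 1) : e ≠ 0 ∧ ∀ c : F, f ≠ c • e := by
  constructor
  · rintro rfl
    rw [hB.zero] at hef
    exact zero_ne_one hef
  · rintro c rfl
    rw [hB.smul', hB.alt, mul_zero] at hef
    exact zero_ne_one hef

section perp

variable {x : Module.End F V}

theorem Sy.sub_eq (hB : Sy B) (v w : V) : v - w = v + w := by
  rw [sub_eq_add_neg, hB.neg]

theorem perp_fx_cm (hB : Sy B) (hx : ∀ v w, B (x v) (x w) = B v w) {v w : V} (hv : v ∈ fx x) (hw : w ∈ cm x) :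
    B v w = 0 := by
  obtain ⟨u, rfl⟩ := mem_cm.1 hw
  have h1 := hx v u
  rw [mem_fx.1 hv] at h1
  rw [hB.sub_eq, hB.add', h1]
  exact add_self hB.two _

theorem exists_pair (hB : Sy B) {W U : Submodule F V} (hWU : W ⊔ U = ⊤) (hp : ∀ w ∈ W, ∀ u ∈ U, B w u = 0)
    (hW : W ≠ ⊥) : ∃ e ∈ W, ∃ f ∈ W, B e f = 1 := by
  obtain ⟨e, he, he0⟩ := Submodule.exists_mem_ne_zero_of_ne_bot hW
  obtain ⟨v, hv⟩ : ∃ v, B e v ≠ 0 := by
    by_contra hcon
    push Not at hcon
    exact he0 (hB.nd e hcon)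
  have hv' : v ∈ W ⊔ U := by rw [hWU]; trivial
  obtain ⟨f, hf, u, hu, rfl⟩ := Submodule.mem_sup.1 hv'
  rw [hB.add', hp e he u hu, add_zero] at hv
  exact ⟨e, he, (B e f)⁻¹ • f, W.smul_mem _ hf, by rw [hB.smul', inv_mul_cancel₀ hv]⟩

/-- two complementary orthogonal subspaces of dimension two -/
theorem planes_of_perp [FiniteDimensional F V] (hB : Sy B) (h4 : finrank F V = 4) {W U : Submodule F V} (hWU : IsCompl W U)
    (hp : ∀ w ∈ W, ∀ u ∈ U, B w u = 0) (hW : W ≠ ⊥) (hU : U ≠ ⊥) : finrank F W = 2 ∧ finrank F U = 2 := by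
  obtain ⟨e, he, f, hf, hef⟩ := exists_pair hB hWU.sup_eq_top hp hW
  obtain ⟨e', he', f', hf', hef'⟩ := exists_pair hB hWU.symm.sup_eq_top
    (fun u hu w hw => by rw [hB.symm]; exact hp w hw u hu) hU
  have h1 := two_le_of_indep he hf (hB.ne_smul hef).1 (hB.ne_smul hef).2
  have h2 := two_le_of_indep he' hf' (hB.ne_smul hef').1 (hB.ne_smul hef').2
  have h3 := Submodule.finrank_add_eq_of_isCompl hWU
  omega

end perp

section fam

variable {S : Type*} [Group S] {ι : Type*} {φ : ι → S →* Module.End F V}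

/-- commuting faithful isometric actions -/
structure Fam (B : V → V → F) (φ : ι → S →* Module.End F V) : Prop where
  inj : ∀ i, Function.Injective (φ i)
  comm : ∀ i j, i ≠ j → ∀ s t v, φ i s (φ j t v) = φ j t (φ i s v)
  iso : ∀ i s v w, B (φ i s v) (φ i s w) = B v w

/-- **The centraliser of a non-scalar operator of a plane is abelian.** -/
theorem triv_of_comm [FiniteDimensional F V] (hB : Sy B) (hS : IsSimpleGroup S) (hSna : ¬ IsMulCommutative S)
    {U : Submodule F V} (hU : finrank F U = 2) {x : Module.End F V} (hx : ∀ v w, B (x v) (x w) = B v w)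
    (hxU : ∀ u ∈ U, x u ∈ U) (hxf : ∀ u ∈ U, x u = u → u = 0) {e f : V} (he : e ∈ U) (hf : f ∈ U) (hef : B e f = 1)
    {ψ : S →* Module.End F V} (hψ : ∀ t v, ψ t (x v) = x (ψ t v)) (hψU : ∀ t, ∀ u ∈ U, ψ t u ∈ U) (t : S) :
    ∀ u ∈ U, ψ t u = u := by
  obtain ⟨he0, hi⟩ := hB.ne_smul hef
  -- a non-eigenvector
  obtain ⟨u0, hu0, hu0i⟩ : ∃ u ∈ U, ∀ c : F, x u ≠ c • u := by
    by_contra hcon
    push Not at hcon
    obtain ⟨a, ha⟩ := hcon e he
    obtain ⟨b, hb⟩ := hcon f hf
    obtain ⟨c, hc⟩ := hcon (e + f) (U.add_mem he hf)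
    have h1 : B e (x (e + f)) = B e (a • e + b • f) := by rw [map_add, ha, hb]
    have h2 : B f (x (e + f)) = B f (a • e + b • f) := by rw [map_add, ha, hb]
    rw [hc, hB.smul', hB.add', hB.add', hB.smul', hB.smul', hB.alt, hef] at h1
    rw [hc, hB.smul', hB.add', hB.add', hB.smul', hB.smul', hB.alt, hB.symm f e, hef] at h2
    have h3 := hx e f
    rw [ha, hb, hB.smul, hB.smul', hef] at h3
    have h4 : a = 1 := by
      apply sq_inj hB.two
      linear_combination h3 + a * h1 - a * h2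
    exact he0 (hxf e he (by rw [ha, h4, one_smul]))
  have hu00 : u0 ≠ 0 := by
    rintro rfl
    exact hu0i 0 (by rw [map_zero, smul_zero])
  have hspan : ∀ w ∈ U, ∃ a b : F, w = a • u0 + b • x u0 := fun w hw => plane_span hU hu0 (hxU _ hu0) hu00 hu0i hw
  apply kr_eq_top hS hSna hψU
  intro s t u hu
  obtain ⟨p, q, rfl⟩ := hspan u hu
  obtain ⟨a, b, h1⟩ := hspan _ (hψU s _ hu0)
  obtain ⟨c, d, h2⟩ := hspan _ (hψU t _ hu0)
  simp only [map_add, map_smul, hψ, h1, h2]
  module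

variable [Finite F] [FiniteDimensional F V] [Nontrivial ι]

theorem pow_eq (hs : S) {p : ℕ} (h : orderOf hs = p) (ψ : S →* Module.End F V) : (ψ hs) ^ p = 1 := by
  rw [← map_pow, ← h, pow_orderOf_eq_one, map_one]

theorem cast_ne_zero_of_odd (h2 : (2 : F) = 0) {p : ℕ} (hp : Odd p) : (p : F) = 1 := by
  obtain ⟨k, rfl⟩ := hp
  push_cast
  rw [h2]
  ring

/-- **An element of odd prime order with a fixed vector: two invariant planes.** -/
theorem Fam.plane (hB : Sy B) (h4 : finrank F V = 4) (hφ : Fam B φ) (hS : IsSimpleGroup S)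
    (hSna : ¬ IsMulCommutative S) {s : S} {p : ℕ} (hp : Odd p) (hsp : orderOf s = p) (hs1 : s ≠ 1) {i : ι}
    (hfx : fx (φ i s) ≠ ⊥) : ∃ j, i ≠ j ∧ ∃ W U : Submodule F V, IsCompl W U ∧ (∀ w ∈ W, ∀ u ∈ U, B w u = 0) ∧
      finrank F W = 2 ∧ finrank F U = 2 ∧ (∀ k t, ∀ w ∈ W, φ k t w ∈ W) ∧ (∀ k t, ∀ u ∈ U, φ k t u ∈ U) ∧
      (∀ t, ∀ w ∈ W, φ i t w = w) ∧ ∀ t, ∀ u ∈ U, φ j t u = u := by
  have hp0 : (p : F) ≠ 0 := by rw [cast_ne_zero_of_odd hB.two hp]; exact one_ne_zero
  obtain ⟨j, hji⟩ := exists_ne i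
  have hcompl : ∀ k, IsCompl (fx (φ k s)) (cm (φ k s)) := fun k => isCompl_fx_cm hp0 (pow_eq s hsp (φ k))
  have hcm : ∀ k, cm (φ k s) ≠ ⊥ := by
    intro k h
    apply hs1
    apply hφ.inj k
    rw [map_one]
    ext v
    have h1 : φ k s v - v ∈ cm (φ k s) := mem_cm.2 ⟨v, rfl⟩
    rw [h, Submodule.mem_bot, sub_eq_zero] at h1
    exact h1
  have hperp : ∀ k, ∀ v ∈ fx (φ k s), ∀ w ∈ cm (φ k s), B v w = 0 := fun k v hv w hw =>
    perp_fx_cm hB (hφ.iso k s) hv hw
  -- anything commuting with `φ k s` preserves both spaces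
  have hinv1 : ∀ k l, k ≠ l → ∀ t, ∀ w ∈ fx (φ k s), φ l t w ∈ fx (φ k s) := by
    intro k l hkl t w hw
    rw [mem_fx] at hw ⊢
    rw [hφ.comm k l hkl, hw]
  have hinv2 : ∀ k l, k ≠ l → ∀ t, ∀ w ∈ cm (φ k s), φ l t w ∈ cm (φ k s) := by
    intro k l hkl t w hw
    obtain ⟨u, rfl⟩ := mem_cm.1 hw
    rw [mem_cm]
    refine ⟨φ l t u, ?_⟩
    rw [hφ.comm k l hkl, map_sub]
  have key : ∀ k, fx (φ k s) ≠ ⊥ → (finrank F (fx (φ k s)) = 2 ∧ finrank F (cm (φ k s)) = 2) ∧
      ∀ l, k ≠ l → ∀ t, ∀ u ∈ cm (φ k s), φ l t u = u := by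
    intro k hk
    have h1 := planes_of_perp hB h4 (hcompl k) (hperp k) hk (hcm k)
    refine ⟨h1, fun l hkl t => ?_⟩
    obtain ⟨e, he, f, hf, hef⟩ := exists_pair hB (hcompl k).symm.sup_eq_top
      (fun u hu w hw => by rw [hB.symm]; exact hperp k w hw u hu) (hcm k)
    refine triv_of_comm hB hS hSna h1.2 (hφ.iso k s) (fun u hu => ?_) (fun u hu hxu => ?_) he hf hef
      (fun t v => (hφ.comm k l hkl s t v).symm) (hinv2 k l hkl) t
    · exact inv_cm u hu
    · have h2 : u ∈ fx (φ k s) ⊓ cm (φ k s) := ⟨mem_fx.2 hxu, hu⟩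
      rw [(hcompl k).inf_eq_bot, Submodule.mem_bot] at h2
      exact h2
  obtain ⟨⟨hW, hU⟩, hU1⟩ := key i hfx
  have hle : cm (φ i s) ≤ fx (φ j s) := fun u hu => mem_fx.2 (hU1 j hji.symm s u hu)
  have hfxj : fx (φ j s) ≠ ⊥ := fun h => by
    rw [h] at hle
    exact hcm i (le_bot_iff.1 hle)
  obtain ⟨⟨hW', hU'⟩, hU2⟩ := key j hfxj
  have heq : cm (φ i s) = fx (φ j s) := Submodule.eq_of_le_of_finrank_le hle (by rw [hW', hU])
  have heq2 : cm (φ j s) = fx (φ i s) := by
    apply Submodule.eq_of_le_of_finrank_le _ (by rw [hW, hU'])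
    intro v hv
    obtain ⟨a, ha, b, hb, rfl⟩ : ∃ a ∈ fx (φ i s), ∃ b ∈ cm (φ i s), a + b = v := by
      have : v ∈ fx (φ i s) ⊔ cm (φ i s) := by rw [(hcompl i).sup_eq_top]; trivial
      exact Submodule.mem_sup.1 this
    have hb0 : b = 0 := by
      refine hB.nd b fun w => ?_
      obtain ⟨c, hc, d, hd, rfl⟩ : ∃ a ∈ fx (φ i s), ∃ b ∈ cm (φ i s), a + b = w := by
        have : w ∈ fx (φ i s) ⊔ cm (φ i s) := by rw [(hcompl i).sup_eq_top]; trivial
        exact Submodule.mem_sup.1 this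
      rw [hB.add', hB.symm b c, hperp i c hc b hb, zero_add]
      have h2 := hperp j d (by rw [← heq]; exact hd) (a + b) hv
      rw [hB.add', hB.symm d a, hperp i a ha d hd, zero_add, hB.symm] at h2
      exact h2
    rw [hb0, add_zero]
    exact ha
  refine ⟨j, hji.symm, fx (φ i s), cm (φ i s), hcompl i, hperp i, hW, hU, ?_, ?_, ?_, ?_⟩
  · intro k t
    by_cases hk : k = i
    · subst hk
      rw [← heq2]
      exact hinv2 j k hji t
    · exact hinv1 i k (Ne.symm hk) t
  · intro k t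
    by_cases hk : k = i
    · subst hk
      rw [heq]
      exact hinv1 j k hji t
    · exact hinv2 i k (Ne.symm hk) t
  · intro t
    rw [← heq2]
    exact hU2 i hji t
  · intro t
    exact hU1 j hji.symm t

/-- the average of a quadratic form -/
theorem exists_avg (hB : Sy B) {Q1 : V → F} (h1 : Qf B Q1) {x : Module.End F V} (hx : ∀ v w, B (x v) (x w) = B v w)
    {p : ℕ} (hp : Odd p) (hxp : x ^ p = 1) : ∃ Q0 : V → F, Qf B Q0 ∧ ∀ v, Q0 (x v) = Q0 v := by
  have hxk : ∀ k v w, B ((x ^ k) v) ((x ^ k) w) = B v w := by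
    intro k
    induction k with
    | zero => intro v w; rfl
    | succ k ih => intro v w; rw [pow_succ', Module.End.mul_apply, Module.End.mul_apply, hx, ih]
  refine ⟨fun v => ∑ k ∈ Finset.range p, Q1 ((x ^ k) v), ⟨fun c v => ?_, fun v w => ?_⟩, fun v => ?_⟩
  · simp only [map_smul, h1.smul]
    rw [Finset.mul_sum]
  · simp only [map_add, h1.polar, Finset.sum_add_distrib, hxk]
    rw [Finset.sum_const, Finset.card_range, nsmul_eq_mul, cast_ne_zero_of_odd hB.two hp, one_mul]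
  · have h2 : ∀ k, (x ^ k) (x v) = (x ^ (k + 1)) v := fun k => by rw [pow_succ, Module.End.mul_apply]
    simp only [h2]
    have h3 := Finset.sum_range_succ (fun k => Q1 ((x ^ k) v)) p
    have h4 := Finset.sum_range_succ' (fun k => Q1 ((x ^ k) v)) p
    rw [h3, hxp, pow_zero] at h4
    exact (add_right_cancel h4).symm

/-- the invariant form of a fixed-point-free isometry is unique -/
theorem qf_unique (hB : Sy B) {Q0 Q1 : V → F} (h0 : Qf B Q0) (h1 : Qf B Q1) {x : Module.End F V}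
    (hx : ∀ v w, B (x v) (x w) = B v w) (hx0 : ∀ v, Q0 (x v) = Q0 v) (hx1 : ∀ v, Q1 (x v) = Q1 v)
    (hfx : fx x = ⊥) (v : V) : Q0 v = Q1 v := by
  obtain ⟨z, hz⟩ := Qf.diff hB h0 h1
  have h2 : ∀ v, B (x v) z = B v z := by
    intro v
    apply sq_inj hB.two
    have e1 := hz (x v)
    rw [hx0, hx1, hz v] at e1
    linear_combination - e1
  have h3 : x z = z := by
    have h5 : x z + z = 0 := by
      -- `x` is surjective
      have hinj : Function.Injective x := by
        intro a b hab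
        have h6 : a - b ∈ fx x → a = b := fun h => by
          rw [hfx, Submodule.mem_bot, sub_eq_zero] at h
          exact h
        have h7 : a - b = 0 := by
          refine hB.nd _ fun w => ?_
          rw [← hx, map_sub, hab, sub_self, hB.zero]
        rwa [sub_eq_zero] at h7
      have hsurj := LinearMap.injective_iff_surjective.1 hinj
      refine hB.nd _ fun w => ?_
      obtain ⟨u, rfl⟩ := hsurj w
      rw [hB.add, hx, hB.symm z u, hB.symm z (x u), h2]
      exact add_self hB.two _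
    rw [add_eq_zero_iff_eq_neg, hB.neg] at h5
    exact h5
  have h6 : z ∈ fx x := mem_fx.2 h3
  rw [hfx, Submodule.mem_bot] at h6
  rw [hz, h6, hB.zero', mul_zero, add_zero]

/-- **Elements of odd prime order without fixed vectors: an invariant quadratic form.** -/
theorem Fam.quad (hB : Sy B) (h4 : finrank F V = 4) (hφ : Fam B φ) (hS : IsSimpleGroup S)
    (hSna : ¬ IsMulCommutative S) {Q1 : V → F} (hQ1 : Qf B Q1) {s : S} {p : ℕ} (hp : Odd p) (hsp : orderOf s = p)
    (hfx : ∀ i, fx (φ i s) = ⊥) : ∃ Q : V → F, Qf B Q ∧ (∀ i t v, Q (φ i t v) = Q v) ∧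
      ∀ i z, z ≠ 1 → z * z = 1 → Ln Q (cm (φ i z)) := by
  obtain ⟨i, j, hij⟩ := exists_pair_ne ι
  obtain ⟨Q, hQ, hQi⟩ := exists_avg hB hQ1 (hφ.iso i s) hp (pow_eq s hsp (φ i))
  -- anything commuting with `φ i s` preserves `Q`
  have hstep : ∀ k, (∀ v, Q (φ k s v) = Q v) → ∀ l, k ≠ l → ∀ t v, Q (φ l t v) = Q v := by
    intro k hk l hkl t v
    refine (qf_unique hB hQ (Q1 := fun v => Q (φ l t v)) ⟨fun c v => ?_, fun v w => ?_⟩ (hφ.iso k s) hk ?_ (hfx k) v).symm
    · simp only [map_smul, hQ.smul]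
    · simp only [map_add, hQ.polar, hφ.iso]
    · intro v
      rw [← hφ.comm k l hkl, hk]
  have hj : ∀ t v, Q (φ j t v) = Q v := hstep i hQi j hij
  have hall : ∀ k t v, Q (φ k t v) = Q v := by
    intro k
    by_cases hk : k = i
    · subst hk
      exact hstep j (hj s) k hij.symm
    · exact hstep i hQi k (Ne.symm hk)
  refine ⟨Q, hQ, hall, fun k z hz1 hzz => ?_⟩
  obtain ⟨l, hlk⟩ := exists_ne k
  have hzz' : ∀ v, φ k z (φ k z v) = v := fun v => by
    rw [← Module.End.mul_apply, ← map_mul, hzz, map_one]; rfl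
  -- `B (z v, v) = 0`
  have halt : ∀ v, B (φ k z v) v = 0 := by
    have h1 : Qf B fun v => Q v + B (φ k z v) v := by
      refine ⟨fun c v => ?_, fun v w => ?_⟩
      · rw [hQ.smul, map_smul, hB.smul, hB.smul']
        ring
      · have h2 : B (φ k z w) v = B (φ k z v) w := by
          rw [← hφ.iso k z (φ k z w) v, hzz', hB.symm]
        rw [hQ.polar, map_add, hB.add, hB.add', hB.add', h2]
        linear_combination B (φ k z v) w * hB.two
    intro v
    have h2 := qf_unique hB hQ h1 (hφ.iso l s) (hall l s) (fun v => by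
      rw [hall, hφ.comm k l hlk.symm, hφ.iso]) (hfx l) v
    have h3 : Q v = Q v + B (φ k z v) v := h2
    linear_combination - h3
  -- totally singular
  have hsg : ∀ v ∈ cm (φ k z), Q v = 0 := by
    intro v hv
    obtain ⟨u, rfl⟩ := mem_cm.1 hv
    rw [hB.sub_eq, hQ.polar, hall, halt, add_zero]
    exact add_self hB.two _
  have hne : cm (φ k z) ≠ ⊥ := by
    intro h
    apply hz1
    apply hφ.inj k
    rw [map_one]
    ext v
    have h1 : φ k z v - v ∈ cm (φ k z) := mem_cm.2 ⟨v, rfl⟩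
    rw [h, Submodule.mem_bot, sub_eq_zero] at h1
    exact h1
  have hinv : ∀ t, ∀ w ∈ cm (φ k z), φ l t w ∈ cm (φ k z) := by
    intro t w hw
    obtain ⟨u, rfl⟩ := mem_cm.1 hw
    rw [mem_cm]
    refine ⟨φ l t u, ?_⟩
    rw [hφ.comm k l hlk.symm, map_sub]
  refine ⟨?_, hsg⟩
  have hle : finrank F (cm (φ k z)) ≤ 2 := finrank_le_two hB h4 fun v hv w hw => by
    have h1 := hQ.polar v w
    rw [hsg v hv, hsg w hw, hsg _ (Submodule.add_mem _ hv hw), zero_add, zero_add] at h1
    exact h1.symm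
  have h0 : finrank F (cm (φ k z)) ≠ 0 := fun h => hne (Submodule.finrank_eq_zero.1 h)
  have h1 : finrank F (cm (φ k z)) ≠ 1 := by
    intro h
    obtain ⟨⟨u, hu⟩, hu0, hall'⟩ := finrank_eq_one_iff'.1 h
    have hsc : ∀ t, ∀ w ∈ cm (φ k z), ∃ c : F, φ l t w = c • w := by
      intro t
      obtain ⟨c, hc⟩ := hall' ⟨φ l t u, hinv t u hu⟩
      have hc' : c • u = φ l t u := congrArg Subtype.val hc
      intro w hw
      obtain ⟨d, hd⟩ := hall' ⟨w, hw⟩
      have hd' : d • u = w := congrArg Subtype.val hd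
      refine ⟨c, ?_⟩
      rw [← hd', map_smul, ← hc', smul_smul, smul_smul, mul_comm]
    have htriv := kr_eq_top hS hSna hinv (fun a b u hu => by
      obtain ⟨c, hc⟩ := hsc a u hu
      obtain ⟨d, hd⟩ := hsc b u hu
      rw [hd, hc, map_smul, map_smul, hd, hc, smul_smul, smul_smul, mul_comm]) s
    apply hne
    rw [eq_bot_iff]
    intro w hw
    have : w ∈ fx (φ l s) := mem_fx.2 (htriv w hw)
    rw [hfx l] at this
    exact this
  omega

end fam

end Cfsg.Agent.H427.Fc
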