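import Cfsg.Agent.H427.Fc.SpA

/-!
# Two-subgroups and involutions in `Sp₄(F)`, `F` finite of characteristic two (helper427, S3679)

* `card_le_plane`, `card_le_quad` : a `2`-group of isometries fixing two orthogonal planes, resp. two totally singular
  planes meeting in a point (and the quadratic form), has order at most `q²`;
* `TyC t` : `t` is an involution of type `c₂`; `TyC.exists_normal`, `TyC.conj`;
* `tyC_plane`, `tyC_quad` : the product of two commuting involutions of different factors has type `c₂`;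
* `tyC_sq` : the square of an isometry of order four has type `c₂`.
-/

set_option autoImplicit false
set_option linter.unusedSectionVars false

namespace Cfsg.Agent.H427.Fc

open Module Cfsg.Agent.H951

variable {F : Type*} [Field F] {V : Type*} [AddCommGroup V] [Module F V] {B : V → V → F}

section two

variable {G : Type*} [Group G] [Finite G]

/-- a `2`-group acting on a space in characteristic two has a fixed vector -/
theorem exists_fixed [Finite F] [FiniteDimensional F V] (h2 : (2 : F) = 0) (hG : IsPGroup 2 G)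
    (ψ : G →* Module.End F V) {W : Submodule F V} (hW : ∀ g, ∀ w ∈ W, ψ g w ∈ W) (hW0 : W ≠ ⊥) :
    ∃ w ∈ W, w ≠ 0 ∧ ∀ g, ψ g w = w := by
  have : Fact (Nat.Prime 2) := ⟨Nat.prime_two⟩
  have : Finite W := Module.finite_of_finite F
  let _ : MulAction G W :=
    { smul := fun g w => ⟨ψ g w, hW g w w.2⟩
      one_smul := fun w => Subtype.ext (by
        change ψ 1 (w : V) = w
        rw [map_one]; rfl)
      mul_smul := fun g h w => Subtype.ext (by
        change ψ (g * h) (w : V) = ψ g (ψ h (w : V))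
        rw [map_mul]; rfl) }
  have hsm : ∀ (g : G) (w : W), ((g • w : W) : V) = ψ g w := fun g w => rfl
  obtain ⟨w0, hw0, hw00⟩ := Submodule.exists_mem_ne_zero_of_ne_bot hW0
  have hcard : 2 ∣ Nat.card W := by
    have h3 : addOrderOf (⟨w0, hw0⟩ : W) = 2 := by
      apply addOrderOf_eq_prime
      · apply Subtype.ext
        change (2 : ℕ) • w0 = 0
        rw [← Nat.cast_smul_eq_nsmul F]
        push_cast
        rw [h2, zero_smul]
      · intro h
        exact hw00 (congrArg Subtype.val h)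
    rw [← h3]
    exact addOrderOf_dvd_natCard _
  have h0 : (0 : W) ∈ MulAction.fixedPoints G W := by
    intro g
    apply Subtype.ext
    rw [hsm]
    exact map_zero _
  obtain ⟨w, hw, hne⟩ := hG.exists_fixed_point_of_prime_dvd_card_of_fixed_point W hcard h0
  refine ⟨w, w.2, fun h => hne (Subtype.ext h.symm), fun g => ?_⟩
  exact congrArg Subtype.val (hw g)

theorem pow_two_eq_one (h2 : (2 : F) = 0) (k : ℕ) {a : F} (ha : a ^ 2 ^ k = 1) : a = 1 := by
  induction k with
  | zero => rwa [pow_zero, pow_one] at ha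
  | succ k ih =>
    apply ih
    apply sq_inj h2
    rw [one_mul, ← ha, pow_succ 2 k, pow_mul, pow_two]

theorem card_le_plane [Finite F] [FiniteDimensional F V] (hB : Sy B) (hG : IsPGroup 2 G) {ψ : G →* Module.End F V}
    (hψ : Function.Injective ψ) (hiso : ∀ g v w, B (ψ g v) (ψ g w) = B v w) {W U : Submodule F V}
    (hWU : IsCompl W U) (hp : ∀ w ∈ W, ∀ u ∈ U, B w u = 0) (hW : finrank F W = 2) (hU : finrank F U = 2)
    (hWi : ∀ g, ∀ w ∈ W, ψ g w ∈ W) (hUi : ∀ g, ∀ u ∈ U, ψ g u ∈ U) : Nat.card G ≤ Nat.card F ^ 2 := by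
  have hp' : ∀ u ∈ U, ∀ w ∈ W, B u w = 0 := fun u hu w hw => by rw [hB.symm]; exact hp w hw u hu
  have hne : ∀ W : Submodule F V, finrank F W = 2 → W ≠ ⊥ := by
    rintro W hW rfl
    rw [finrank_bot] at hW
    omega
  have key : ∀ W U : Submodule F V, IsCompl W U → (∀ w ∈ W, ∀ u ∈ U, B w u = 0) → finrank F W = 2 →
      (∀ g, ∀ w ∈ W, ψ g w ∈ W) → ∃ f, ∀ g g', B (ψ g f) f = B (ψ g' f) f → ∀ w ∈ W, ψ g w = ψ g' w := by
    intro W U hWU hp hW hWi
    obtain ⟨e, he, he0, hfix⟩ := exists_fixed hB.two hG ψ hWi (hne W hW)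
    obtain ⟨v, hv⟩ : ∃ v, B e v ≠ 0 := by
      by_contra hcon
      push Not at hcon
      exact he0 (hB.nd e hcon)
    obtain ⟨f, hf, u, hu, rfl⟩ := Submodule.mem_sup.1 (show v ∈ W ⊔ U by rw [hWU.sup_eq_top]; trivial)
    rw [hB.add', hp e he u hu, add_zero] at hv
    have hef : B e ((B e f)⁻¹ • f) = 1 := by rw [hB.smul', inv_mul_cancel₀ hv]
    set f' := (B e f)⁻¹ • f with hf'
    have hf'W : f' ∈ W := W.smul_mem _ hf
    have hform : ∀ g, ψ g f' = B (ψ g f') f' • e + f' := by
      intro g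
      obtain ⟨a, b, hab⟩ := plane_span hW he hf'W he0 (hB.ne_smul hef).2 (hWi g f' hf'W)
      have h1 := hiso g e f'
      rw [hfix, hab, hB.add', hB.smul', hB.smul', hB.alt, hef] at h1
      have hb : b = 1 := by linear_combination h1
      rw [hab, hb, hB.add, hB.smul, hB.smul, hB.alt, hef, one_smul, mul_one, mul_zero, add_zero]
    refine ⟨f', fun g g' h w hw => ?_⟩
    obtain ⟨a, b, rfl⟩ := plane_span hW he hf'W he0 (hB.ne_smul hef).2 hw
    have h5 : ψ g f' = ψ g' f' := by rw [hform g, hform g', h]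
    rw [map_add, map_add, LinearMap.map_smul _ a e, LinearMap.map_smul _ a e, LinearMap.map_smul _ b f',
      LinearMap.map_smul _ b f', hfix, hfix, h5]
  obtain ⟨f, hf⟩ := key W U hWU hp hW hWi
  obtain ⟨f', hf'⟩ := key U W hWU.symm hp' hU hUi
  have h1 : Nat.card G ≤ Nat.card (F × F) := by
    refine Nat.card_le_card_of_injective (fun g => (B (ψ g f) f, B (ψ g f') f')) ?_
    intro g g' hgg
    rw [Prod.mk.injEq] at hgg
    apply hψ
    ext v
    obtain ⟨w, hw, u, hu, rfl⟩ := Submodule.mem_sup.1 (show v ∈ W ⊔ U by rw [hWU.sup_eq_top]; trivial)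
    rw [map_add, map_add, hf g g' hgg.1 w hw, hf' g g' hgg.2 u hu]
  rwa [Nat.card_prod, ← pow_two] at h1

theorem card_le_quad [Finite F] [FiniteDimensional F V] (hB : Sy B) (h4 : finrank F V = 4) (hG : IsPGroup 2 G)
    {ψ : G →* Module.End F V} (hψ : Function.Injective ψ) (hiso : ∀ g v w, B (ψ g v) (ψ g w) = B v w)
    {Q : V → F} (hQ : Qf B Q) (hQi : ∀ g v, Q (ψ g v) = Q v) {L1 L2 : Submodule F V} (hL1 : Ln Q L1) (hL2 : Ln Q L2)
    (h1i : ∀ g, ∀ w ∈ L1, ψ g w ∈ L1) (h2i : ∀ g, ∀ u ∈ L2, ψ g u ∈ L2) (h12 : finrank F ↥(L1 ⊓ L2) = 1) :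
    Nat.card G ≤ Nat.card F ^ 2 := by
  have hne : L1 ⊓ L2 ≠ ⊥ := by
    intro h
    rw [h, finrank_bot] at h12
    omega
  obtain ⟨v, hv, hv0, hfix⟩ := exists_fixed hB.two hG ψ (W := L1 ⊓ L2)
    (fun g w hw => ⟨h1i g w hw.1, h2i g w hw.2⟩) hne
  obtain ⟨l1, hl1, hi1⟩ := Ln.exists_snd hL1.rk hv0
  obtain ⟨l2, hl2, hi2⟩ := Ln.exists_snd hL2.rk hv0
  -- the vector `w`
  have key : ∀ L : Submodule F V, Ln Q L → v ∈ L → (∀ g, ∀ w ∈ L, ψ g w ∈ L) → ∀ l ∈ L, (∀ c : F, l ≠ c • v) →
      ∀ g, ∃ c : F, ψ g l = l + c • v := by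
    intro L hL hvL hLi l hl hli g
    have hspan : ∀ w ∈ L, ∃ a b : F, w = a • v + b • l := fun w hw => plane_span hL.rk hvL hl hv0 hli hw
    obtain ⟨c, a, hca⟩ := hspan _ (hLi g l hl)
    have hpow : ∀ n : ℕ, ∃ c : F, ψ (g ^ n) l = c • v + (a ^ n) • l := by
      intro n
      induction n with
      | zero => exact ⟨0, by rw [pow_zero, pow_zero, map_one, zero_smul, zero_add, one_smul]; rfl⟩
      | succ n ih =>
        obtain ⟨d, hd⟩ := ih
        refine ⟨d + a ^ n * c, ?_⟩
        rw [pow_succ', map_mul, Module.End.mul_apply, hd, map_add, map_smul, map_smul, hfix, hca]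
        module
    obtain ⟨k, hk⟩ := hG g
    obtain ⟨d, hd⟩ := hpow (2 ^ k)
    rw [hk, map_one, Module.End.one_apply] at hd
    have ha : a = 1 := by
      apply pow_two_eq_one hB.two k
      by_contra hne1
      apply hli (d / (1 - a ^ 2 ^ k))
      have hne2 : 1 - a ^ 2 ^ k ≠ 0 := fun h => hne1 (sub_eq_zero.1 h).symm
      have h3 : (1 - a ^ 2 ^ k) • l = d • v := by
        rw [sub_smul, one_smul]
        nth_rewrite 1 [hd]
        abel
      rw [div_eq_inv_mul, mul_smul, ← h3, smul_smul, inv_mul_cancel₀ hne2, one_smul]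
    refine ⟨c, ?_⟩
    rw [hca, ha, one_smul, add_comm]
  have k1 := key L1 hL1 hv.1 h1i l1 hl1 hi1
  have k2 := key L2 hL2 hv.2 h2i l2 hl2 hi2
  choose c1 hc1 using k1
  choose c2 hc2 using k2
  -- `v, l1, l2` are independent and `B l1 l2 ≠ 0`
  have hb : B l1 l2 ≠ 0 := by
    intro hb
    have h5 : ∀ x ∈ L1 ⊔ L2, ∀ y ∈ L1 ⊔ L2, B x y = 0 := by
      have hspan1 : ∀ w ∈ L1, ∃ a b : F, w = a • v + b • l1 := fun w hw => plane_span hL1.rk hv.1 hl1 hv0 hi1 hw
      have hspan2 : ∀ w ∈ L2, ∃ a b : F, w = a • v + b • l2 := fun w hw => plane_span hL2.rk hv.2 hl2 hv0 hi2 hw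
      have e1 : B v l1 = 0 := hL1.iso hQ hv.1 hl1
      have e2 : B v l2 = 0 := hL2.iso hQ hv.2 hl2
      intro x hx y hy
      obtain ⟨x1, hx1, x2, hx2, rfl⟩ := Submodule.mem_sup.1 hx
      obtain ⟨y1, hy1, y2, hy2, rfl⟩ := Submodule.mem_sup.1 hy
      obtain ⟨a1, a2, rfl⟩ := hspan1 x1 hx1
      obtain ⟨a3, a4, rfl⟩ := hspan2 x2 hx2
      obtain ⟨a5, a6, rfl⟩ := hspan1 y1 hy1
      obtain ⟨a7, a8, rfl⟩ := hspan2 y2 hy2
      simp only [hB.add, hB.add', hB.smul, hB.smul', hB.alt, e1, e2, hb, hB.symm l1 v, hB.symm l2 v, hB.symm l2 l1,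
        mul_zero, add_zero]
    have h6 := finrank_le_two hB h4 h5
    have h7 := Submodule.finrank_sup_add_finrank_inf_eq L1 L2
    rw [hL1.rk, hL2.rk, h12] at h7
    omega
  have h1 : Nat.card G ≤ Nat.card (F × F) := by
    refine Nat.card_le_card_of_injective (fun g => (c1 g, c2 g)) ?_
    intro g g' hgg
    rw [Prod.mk.injEq] at hgg
    have e1 : ψ (g⁻¹ * g') l1 = l1 := by
      rw [map_mul, Module.End.mul_apply, hc1 g', ← hgg.1, ← hc1 g, ← Module.End.mul_apply, ← map_mul, inv_mul_cancel,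
        map_one]
      rfl
    have e2 : ψ (g⁻¹ * g') l2 = l2 := by
      rw [map_mul, Module.End.mul_apply, hc2 g', ← hgg.2, ← hc2 g, ← Module.End.mul_apply, ← map_mul, inv_mul_cancel,
        map_one]
      rfl
    rw [← inv_mul_eq_one]
    set h := g⁻¹ * g' with hh
    have e0 : ψ h v = v := hfix h
    apply hψ
    rw [map_one]
    ext w
    rw [Module.End.one_apply]
    -- `h w - w` is orthogonal to `v, l1, l2`, hence a multiple of `v`
    have g1 : ∀ x, ψ h x = x → B (ψ h w + w) x = 0 := by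
      intro x hx
      have := hiso h w x
      rw [hx] at this
      rw [hB.add, this]
      exact add_self hB.two _
    have hK : ∃ c : F, ψ h w + w = c • v := by
      -- `ψ h w + w` lies in `(v^⊥)^⊥`
      obtain ⟨y, hy⟩ : ∃ y, B v y ≠ 0 := by
        by_contra hcon
        push Not at hcon
        exact hv0 (hB.nd v hcon)
      have hP : finrank F (LinearMap.ker (hB.fn v)) = 3 := by
        have h5 := LinearMap.finrank_range_add_finrank_ker (hB.fn v)
        have h6 : finrank F (LinearMap.range (hB.fn v)) = 1 := by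
          have h7 : finrank F (LinearMap.range (hB.fn v)) ≤ 1 := by
            have := Submodule.finrank_le (LinearMap.range (hB.fn v))
            rwa [finrank_self] at this
          have h8 : finrank F (LinearMap.range (hB.fn v)) ≠ 0 := by
            intro h9
            rw [Submodule.finrank_eq_zero, LinearMap.range_eq_bot] at h9
            apply hy
            rw [hB.symm]
            exact LinearMap.congr_fun h9 y
          omega
        omega
      have hsup : L1 ⊔ L2 = LinearMap.ker (hB.fn v) := by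
        apply Submodule.eq_of_le_of_finrank_le
        · apply sup_le
          · intro w hw
            rw [LinearMap.mem_ker]
            exact hL1.iso hQ hw hv.1
          · intro w hw
            rw [LinearMap.mem_ker]
            exact hL2.iso hQ hw hv.2
        · have h5 := Submodule.finrank_sup_add_finrank_inf_eq L1 L2
          rw [hL1.rk, hL2.rk, h12] at h5
          rw [hP]
          omega
      have hort : ∀ x, B x v = 0 → B (ψ h w + w) x = 0 := by
        intro x hx
        have hx' : x ∈ L1 ⊔ L2 := by rw [hsup, LinearMap.mem_ker]; exact hx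
        obtain ⟨x1, hx1, x2, hx2, rfl⟩ := Submodule.mem_sup.1 hx'
        obtain ⟨a1, a2, rfl⟩ := plane_span hL1.rk hv.1 hl1 hv0 hi1 hx1
        obtain ⟨a3, a4, rfl⟩ := plane_span hL2.rk hv.2 hl2 hv0 hi2 hx2
        rw [hB.add', hB.add', hB.add', hB.smul', hB.smul', hB.smul', hB.smul', g1 v e0, g1 l1 e1, g1 l2 e2]
        ring
      refine ⟨B (ψ h w + w) y / B v y, ?_⟩
      rw [← sub_eq_zero]
      refine hB.nd _ fun x => ?_
      have h8 : B (x + (B x v / B y v) • y) v = 0 := by
        rw [hB.add, hB.smul, div_mul_cancel₀ _ (by rw [hB.symm]; exact hy)]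
        exact add_self hB.two _
      have h9 := hort _ h8
      rw [hB.add', hB.smul'] at h9
      rw [hB.sub_eq, hB.add, hB.smul, hB.symm v x]
      rw [hB.symm y v] at h9
      field_simp at h9 ⊢
      linear_combination h9
    obtain ⟨c, hc⟩ := hK
    by_cases hwv : B w v = 0
    · -- `w ∈ v^⊥ = L1 + L2` is fixed
      have hP : finrank F (LinearMap.ker (hB.fn v)) ≤ 3 := by
        have h5 := LinearMap.finrank_range_add_finrank_ker (hB.fn v)
        have h8 : finrank F (LinearMap.range (hB.fn v)) ≠ 0 := by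
          intro h9
          rw [Submodule.finrank_eq_zero, LinearMap.range_eq_bot] at h9
          apply hv0
          refine hB.nd v fun w => ?_
          rw [hB.symm]
          exact LinearMap.congr_fun h9 w
        omega
      have hsup : L1 ⊔ L2 = LinearMap.ker (hB.fn v) := by
        apply Submodule.eq_of_le_of_finrank_le
        · apply sup_le
          · intro w hw
            rw [LinearMap.mem_ker]
            exact hL1.iso hQ hw hv.1
          · intro w hw
            rw [LinearMap.mem_ker]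
            exact hL2.iso hQ hw hv.2
        · have h5 := Submodule.finrank_sup_add_finrank_inf_eq L1 L2
          rw [hL1.rk, hL2.rk, h12] at h5
          omega
      have hx' : w ∈ L1 ⊔ L2 := by rw [hsup, LinearMap.mem_ker]; exact hwv
      obtain ⟨x1, hx1, x2, hx2, rfl⟩ := Submodule.mem_sup.1 hx'
      obtain ⟨a1, a2, rfl⟩ := plane_span hL1.rk hv.1 hl1 hv0 hi1 hx1
      obtain ⟨a3, a4, rfl⟩ := plane_span hL2.rk hv.2 hl2 hv0 hi2 hx2
      simp only [map_add, map_smul, e0, e1, e2]
    · have hw : ψ h w = w + c • v := by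
        rw [← hc, add_comm (ψ h w), ← add_assoc, hB.vadd_self, zero_add]
      have h9 := hQi h w
      rw [hw, hQ.polar, hQ.smul, hL1.sg v hv.1, hB.smul'] at h9
      have h10 : c = 0 := by
        have h11 : c * B w v = 0 := by linear_combination h9
        exact (mul_eq_zero.1 h11).resolve_right hwv
      rw [hw, h10, zero_smul, add_zero]
  rwa [Nat.card_prod, ← pow_two] at h1

end two

/-! ### involutions of type `c₂` -/

/-- an involution of type `c₂` -/
structure TyC (B : V → V → F) (t : Module.End F V) : Prop where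
  iso : ∀ v w, B (t v) (t w) = B v w
  inv : ∀ v, t (t v) = v
  rk : 2 ≤ finrank F (cm t)
  ne : ∃ u, B (t u) u ≠ 0

/-- the normal form -/
structure Nf (B : V → V → F) (t : Module.End F V) (e1 e2 f1 f2 : V) : Prop where
  hyp : Hyp B e1 e2 f1 f2
  te1 : t e1 = e1
  te2 : t e2 = e2
  tf1 : t f1 = f1 + e1
  tf2 : t f2 = f2 + e2

section tyc

variable [Finite F] [FiniteDimensional F V]

theorem TyC.exists_normal (hB : Sy B) (h4 : finrank F V = 4) {t : Module.End F V} (ht : TyC B t) :
    ∃ e1 e2 f1 f2, Nf B t e1 e2 f1 f2 := by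
  obtain ⟨s, hs⟩ := exists_sqrt (F := F) hB.two
  -- the form `β (u, v) = B (t u + u, v)`
  have hN : ∀ v, t (t v + v) = t v + v := fun v => by rw [map_add, ht.inv, add_comm]
  have hadj : ∀ u v, B (t u + u) v = B (t v + v) u := by
    intro u v
    rw [hB.add, hB.add, ← ht.iso (t u) v, ht.inv, hB.symm u (t v), hB.symm u v]
  have hiso : ∀ u v, B (t u + u) (t v + v) = 0 := by
    intro u v
    rw [hadj u, hN, hB.vadd_self, hB.zero]
  have hle : finrank F (cm t) ≤ 2 := finrank_le_two hB h4 (by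
    intro v hv w hw
    obtain ⟨a, rfl⟩ := mem_cm.1 hv
    obtain ⟨b, rfl⟩ := mem_cm.1 hw
    rw [hB.sub_eq, hB.sub_eq, hiso])
  have hrk : finrank F (cm t) = 2 := le_antisymm hle ht.rk
  obtain ⟨u, hu⟩ := ht.ne
  -- `β (f1, f1) = 1`
  have hβ : ∀ x, B (t x + x) x = B (t x) x := fun x => by rw [hB.add, hB.alt, add_zero]
  set r := s (B (t u) u)⁻¹ with hr
  have hr1 : r * r * B (t u) u = 1 := by rw [hr, hs, inv_mul_cancel₀ hu]
  set f2 := r • u with hf2
  have h22 : B (t f2) f2 = 1 := by rw [hf2, map_smul, hB.smul, hB.smul', ← hr1]; ring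
  set e2 := t f2 + f2 with he2
  have he2m : e2 ∈ cm t := mem_cm.2 ⟨f2, by rw [hB.sub_eq]⟩
  have hef2 : B e2 f2 = 1 := by rw [he2, hβ, h22]
  have he20 : e2 ≠ 0 := (hB.ne_smul hef2).1
  obtain ⟨x, hx, hxi⟩ := Ln.exists_snd hrk he20
  obtain ⟨u', rfl⟩ := mem_cm.1 hx
  rw [hB.sub_eq] at hx hxi
  -- orthogonalise
  set c := B (t u' + u') f2 with hc
  set w := u' + c • f2 with hw
  have hNw : t w + w = (t u' + u') + c • e2 := by
    rw [hw, map_add, map_smul, he2, smul_add]
    abel
  have hw2 : B (t w + w) f2 = 0 := by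
    rw [hNw, hB.add, hB.smul, hef2, ← hc, mul_one]
    exact add_self hB.two _
  have hwne : t w + w ≠ 0 := by
    intro h
    rw [hNw, add_eq_zero_iff_eq_neg, hB.neg] at h
    exact hxi c h
  have hww : B (t w) w ≠ 0 := by
    intro h
    -- `t w + w` is orthogonal to everything
    apply hwne
    refine hB.nd _ fun v => ?_
    obtain ⟨a, b, hab⟩ : ∃ a b : F, t v + v = a • e2 + b • (t w + w) := by
      refine plane_span hrk he2m (mem_cm.2 ⟨w, by rw [hB.sub_eq]⟩) he20 ?_ (mem_cm.2 ⟨v, by rw [hB.sub_eq]⟩)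
      intro d hd
      rw [hd, hB.smul, hef2, mul_one] at hw2
      rw [hd, hw2, zero_smul] at hwne
      exact hwne rfl
    rw [hadj w v, hab, hB.add, hB.smul, hB.smul, hβ, h, he2, hadj f2 w, hw2]
    ring
  set r' := s (B (t w) w)⁻¹ with hr'
  have hr1' : r' * r' * B (t w) w = 1 := by rw [hr', hs, inv_mul_cancel₀ hww]
  set g1 := r' • w with hg1
  have h11 : B (t g1) g1 = 1 := by rw [hg1, map_smul, hB.smul, hB.smul', ← hr1']; ring
  set e1 := t g1 + g1 with he1
  have he12 : B e1 f2 = 0 := by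
    rw [he1, hg1, map_smul, ← smul_add, hB.smul, hw2, mul_zero]
  have heg1 : B e1 g1 = 1 := by rw [he1, hβ, h11]
  have he2g1 : B e2 g1 = 0 := by rw [he2, hadj, ← he1, he12]
  clear_value g1
  -- correct `g1`
  set f1 := g1 + B g1 f2 • e2 with hf1
  have hte2 : t e2 = e2 := hN f2
  refine ⟨e1, e2, f1, f2, ⟨⟨?_, ?_, ?_, hef2, he12, ?_⟩, hN g1, hte2, ?_, ?_⟩⟩
  · rw [he1, he2, hiso]
  · rw [hf1, hB.add, hB.smul, hef2]
    linear_combination (B g1 f2) * hB.two
  · rw [hf1, hB.add', hB.smul', heg1, he1, he2, hiso, mul_zero, add_zero]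
  · rw [hf1, hB.add', hB.smul', he2g1, hB.alt, mul_zero, add_zero]
  · have h5 : t g1 = g1 + e1 := by rw [he1, add_comm (t g1), ← add_assoc, hB.vadd_self, zero_add]
    rw [hf1, map_add, map_smul, hte2, h5]
    abel
  · rw [he2, add_comm (t f2), ← add_assoc, hB.vadd_self, zero_add]

/-- **Involutions of type `c₂` are conjugate.** -/
theorem TyC.conj (hB : Sy B) (h4 : finrank F V = 4) {t t' : Module.End F V} (ht : TyC B t) (ht' : TyC B t') :
    ∃ g : V ≃ₗ[F] V, (∀ v w, B (g v) (g w) = B v w) ∧ ∀ v, g (t v) = t' (g v) := by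
  obtain ⟨e1, e2, f1, f2, h⟩ := ht.exists_normal hB h4
  obtain ⟨e1', e2', f1', f2', h'⟩ := ht'.exists_normal hB h4
  obtain ⟨g, hg, g1, g2, g3, g4⟩ := h.hyp.exists_iso hB h4 h'.hyp
  refine ⟨g, hg, ?_⟩
  obtain ⟨b, h0, h1, h2, h3⟩ := h.hyp.exists_basis hB h4
  have key : g.toLinearMap.comp t = t'.comp g.toLinearMap := by
    apply b.ext
    intro i
    rw [LinearMap.comp_apply, LinearMap.comp_apply]
    change g (t (b i)) = t' (g (b i))
    fin_cases i
    · change g (t (b 0)) = t' (g (b 0))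
      rw [h0, h.te1, g1, h'.te1]
    · change g (t (b 1)) = t' (g (b 1))
      rw [h1, h.te2, g2, h'.te2]
    · change g (t (b 2)) = t' (g (b 2))
      rw [h2, h.tf1, map_add, g3, g1, h'.tf1]
    · change g (t (b 3)) = t' (g (b 3))
      rw [h3, h.tf2, map_add, g4, g2, h'.tf2]
  exact fun v => LinearMap.congr_fun key v

end tyc

section prod

variable [Finite F] [FiniteDimensional F V]

/-- the product in the plane case -/
theorem tyC_plane (hB : Sy B) {x y : Module.End F V} (hx : ∀ v w, B (x v) (x w) = B v w)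
    (hy : ∀ v w, B (y v) (y w) = B v w) (hxx : ∀ v, x (x v) = v) (hyy : ∀ v, y (y v) = v)
    (hxy : ∀ v, x (y v) = y (x v)) {W U : Submodule F V}
    (hWU : IsCompl W U) (hW : finrank F W = 2) (hU : finrank F U = 2) (hp : ∀ w ∈ W, ∀ u ∈ U, B w u = 0)
    (hxW : ∀ w ∈ W, x w = w) (hyU : ∀ u ∈ U, y u = u) (hxU : ∀ u ∈ U, x u ∈ U) (hyW : ∀ w ∈ W, y w ∈ W)
    (hx1 : ∃ v, x v ≠ v) (hy1 : ∃ v, y v ≠ v) : TyC B (x * y) := by
  have hp' : ∀ u ∈ U, ∀ w ∈ W, B u w = 0 := fun u hu w hw => by rw [hB.symm]; exact hp w hw u hu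
  have key : ∀ (W U : Submodule F V) (x : Module.End F V), IsCompl W U → finrank F U = 2 →
      (∀ w ∈ W, ∀ u ∈ U, B w u = 0) → (∀ v, x (x v) = v) →
      (∀ w ∈ W, x w = w) → (∀ u ∈ U, x u ∈ U) → (∃ v, x v ≠ v) → ∃ u ∈ U, x u ≠ u ∧ B (x u) u ≠ 0 := by
    intro W U x hWU hU hp hxx hxW hxU ⟨v, hv⟩
    obtain ⟨w, hw, u, hu, rfl⟩ := Submodule.mem_sup.1 (show v ∈ W ⊔ U by rw [hWU.sup_eq_top]; trivial)
    rw [map_add, hxW w hw] at hv
    have hxu : x u ≠ u := fun h => hv (by rw [h])
    refine ⟨u, hu, hxu, fun h0 => ?_⟩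
    have hu0 : u ≠ 0 := by
      rintro rfl
      exact hxu (map_zero _)
    by_cases hi : ∀ c : F, x u ≠ c • u
    · -- `u` is orthogonal to `U`
      apply hu0
      refine hB.nd u fun v => ?_
      obtain ⟨w', hw', u', hu', rfl⟩ := Submodule.mem_sup.1 (show v ∈ W ⊔ U by rw [hWU.sup_eq_top]; trivial)
      obtain ⟨a, b, rfl⟩ := plane_span hU hu (hxU u hu) hu0 hi hu'
      rw [hB.add', hB.symm u w', hp w' hw' u hu, hB.add', hB.smul', hB.smul', hB.alt, hB.symm u (x u), h0]
      ring
    · push Not at hi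
      obtain ⟨c, hc⟩ := hi
      apply hxu
      have h1 := hxx u
      rw [hc, map_smul, hc, smul_smul] at h1
      have h2 : c * c = 1 := by
        have h3 : (c * c - 1) • u = 0 := by rw [sub_smul, h1, one_smul, sub_self]
        have h4 := (smul_eq_zero.1 h3).resolve_right hu0
        linear_combination h4
      have h3 : c = 1 := by
        apply sq_inj hB.two
        rw [h2, one_mul]
      rw [hc, h3, one_smul]
  obtain ⟨u, hu, hxu, hxu'⟩ := key W U x hWU hU hp hxx hxW hxU hx1
  obtain ⟨w, hw, hyw, hyw'⟩ := key U W y hWU.symm hW hp' hyy hyU hyW hy1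
  have ht : ∀ v, (x * y) v = x (y v) := fun v => rfl
  refine ⟨fun v w => by rw [ht, ht, hx, hy], fun v => by rw [ht, ht, ← hxy, hyy, hxx], ?_, u, ?_⟩
  · have h1 : x u - u ∈ cm (x * y) := mem_cm.2 ⟨u, by rw [ht, hyU u hu]⟩
    have h2 : y w - w ∈ cm (x * y) := mem_cm.2 ⟨w, by rw [ht, hxW _ (hyW w hw)]⟩
    refine two_le_of_indep h1 h2 (sub_ne_zero.2 hxu) ?_
    intro c hc
    have h3 : y w - w ∈ W ⊓ U := ⟨W.sub_mem (hyW w hw) hw, by rw [hc]; exact U.smul_mem _ (U.sub_mem (hxU u hu) hu)⟩
    rw [hWU.inf_eq_bot, Submodule.mem_bot, sub_eq_zero] at h3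
    exact hyw h3
  · rw [ht, hyU u hu]
    exact hxu'

/-- the product in the quadratic form case -/
theorem tyC_quad (hB : Sy B) {Q : V → F} (hQ : Qf B Q) {x y : Module.End F V} (hx : ∀ v w, B (x v) (x w) = B v w)
    (hy : ∀ v w, B (y v) (y w) = B v w) (hQx : ∀ v, Q (x v) = Q v) (hQy : ∀ v, Q (y v) = Q v)
    (hxx : ∀ v, x (x v) = v) (hyy : ∀ v, y (y v) = v) (hxy : ∀ v, x (y v) = y (x v))
    (hL1 : Ln Q (cm x)) (hL2 : Ln Q (cm y)) {l : V} (hl : l ∈ cm x) (hyl : y l ≠ l) :
    TyC B (x * y) ∧ finrank F ↥(cm x ⊓ cm y) = 1 := by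
  have hxl : ∀ l ∈ cm x, x l = l := by
    intro l hl
    obtain ⟨u, rfl⟩ := mem_cm.1 hl
    rw [map_sub, hxx, hB.sub_eq, hB.sub_eq, add_comm]
  have hyl' : ∀ l ∈ cm y, y l = l := by
    intro l hl
    obtain ⟨u, rfl⟩ := mem_cm.1 hl
    rw [map_sub, hyy, hB.sub_eq, hB.sub_eq, add_comm]
  have hyL : ∀ l ∈ cm x, y l ∈ cm x := by
    intro l hl
    obtain ⟨u, rfl⟩ := mem_cm.1 hl
    exact mem_cm.2 ⟨y u, by rw [hxy, map_sub]⟩
  have hne : cm x ≠ cm y := by
    intro h
    apply hyl
    apply hyl'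
    rw [← h]
    exact hl
  have hmx : ∀ u, x u + u ∈ cm x := fun u => mem_cm.2 ⟨u, hB.sub_eq _ _⟩
  have hmy : ∀ u, y u + u ∈ cm y := fun u => mem_cm.2 ⟨u, hB.sub_eq _ _⟩
  have hv0 : y l + l ≠ 0 := by
    intro h
    rw [add_eq_zero_iff_eq_neg, hB.neg] at h
    exact hyl h
  have hv1 : y l + l ∈ cm x := Submodule.add_mem _ (hyL l hl) hl
  have hodd : finrank F ↥(cm x ⊓ cm y) = 1 := odd_of hL1.rk hL2.rk hne hv0 hv1 (hmy l)
  have ht : ∀ v, (x * y) v = x (y v) := fun v => rfl
  have halt1 : ∀ u, B (x u) u = 0 := by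
    intro u
    have h1 := hL1.sg _ (hmx u)
    rw [hQ.polar, hQx] at h1
    linear_combination h1 - Q u * hB.two
  have halt2 : ∀ u, B (y u) u = 0 := by
    intro u
    have h1 := hL2.sg _ (hmy u)
    rw [hQ.polar, hQy] at h1
    linear_combination h1 - Q u * hB.two
  refine ⟨⟨fun v w => by rw [ht, ht, hx, hy], fun v => by rw [ht, ht, ← hxy, hyy, hxx], ?_, ?_⟩, hodd⟩
  · by_contra hlt
    have h1 : finrank F (cm (x * y)) ≤ 1 := by omega
    have h2 : y l + l ∈ cm (x * y) := mem_cm.2 ⟨l, by rw [ht, hxy, hxl l hl, hB.sub_eq]⟩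
    have h3 : (F ∙ (y l + l)) = cm (x * y) := Submodule.eq_of_le_of_finrank_le
      (by rw [Submodule.span_singleton_le_iff_mem]; exact h2) (by rw [finrank_span_singleton hv0]; exact h1)
    have h4 : cm (x * y) ≤ cm x := by
      rw [← h3, Submodule.span_singleton_le_iff_mem]
      exact hv1
    apply hne
    symm
    apply Submodule.eq_of_le_of_finrank_le
    · intro w hw
      obtain ⟨u, rfl⟩ := mem_cm.1 hw
      have h5 : x (y u) + u ∈ cm x := h4 (mem_cm.2 ⟨u, by rw [ht, hB.sub_eq]⟩)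
      have h6 := Submodule.add_mem _ h5 (hmx (y u))
      have h7 : x (y u) + u + (x (y u) + y u) = y u - u := by
        rw [hB.sub_eq]
        have : x (y u) + u + (x (y u) + y u) = (x (y u) + x (y u)) + (y u + u) := by abel
        rw [this, hB.vadd_self, zero_add]
      rwa [h7] at h6
    · rw [hL1.rk, hL2.rk]
  · by_contra hcon
    push Not at hcon
    -- `R u = y (x u + u) + (x u + u)`
    have hR : ∀ u, B (x (y u)) u = B u (y (x u + u) + (x u + u)) := by
      intro u
      rw [hB.add', ← hy u (y (x u + u)), hyy, hB.add', hB.add', hB.alt, hB.symm u (x u), halt1, halt2,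
        ← hx (x (y u)) u, hxx]
      ring
    have hsym : ∀ u w, B (y (x u + u) + (x u + u)) w = B u (y (x w + w) + (x w + w)) := by
      intro u w
      have e1 : B (y (x u)) w = B u (y (x w)) := by
        rw [← hxy u, ← hx (x (y u)) w, hxx, ← hy (y u) (x w), hyy]
      have e2 : B (y u) w = B u (y w) := by rw [← hy (y u) w, hyy]
      have e3 : B (x u) w = B u (x w) := by rw [← hx (x u) w, hxx]
      simp only [map_add, hB.add, hB.add']
      rw [e1, e2, e3]
    obtain ⟨u0, hu0⟩ := mem_cm.1 hl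
    rw [hB.sub_eq] at hu0
    have hR0 : y (x u0 + u0) + (x u0 + u0) ≠ 0 := by rw [hu0]; exact hv0
    obtain ⟨⟨r, hr⟩, hr0, hall⟩ := finrank_eq_one_iff'.1 hodd
    have hRm : ∀ w, ∃ c : F, c • r = y (x w + w) + (x w + w) := by
      intro w
      obtain ⟨c, hc⟩ := hall ⟨y (x w + w) + (x w + w), Submodule.add_mem _ (hyL _ (hmx w)) (hmx w), hmy _⟩
      exact ⟨c, congrArg Subtype.val hc⟩
    obtain ⟨c0, hc0⟩ := hRm u0
    have hc00 : c0 ≠ 0 := by
      rintro rfl
      rw [zero_smul] at hc0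
      exact hR0 hc0.symm
    apply hR0
    refine hB.nd _ fun w => ?_
    obtain ⟨c, hc⟩ := hRm w
    rw [hsym, ← hc]
    have h1 := hcon u0
    rw [ht, hR, ← hc0, hB.smul'] at h1
    rw [hB.smul', (mul_eq_zero.1 h1).resolve_left hc00, mul_zero]

/-- **The square of an isometry of order four has type `c₂`.** -/
theorem tyC_sq (hB : Sy B) (h4 : finrank F V = 4) {g : Module.End F V} (hg : ∀ v w, B (g v) (g w) = B v w)
    (hg4 : ∀ v, g (g (g (g v))) = v) (hg2 : ∃ v, g (g v) ≠ v) : TyC B (g * g) := by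
  let N : Module.End F V := g + 1
  have hN : ∀ v, N v = g v + v := fun v => rfl
  have hN2 : ∀ v, N (N v) = g (g v) + v := by
    intro v
    rw [hN, hN, map_add]
    have : g (g v) + g v + (g v + v) = g (g v) + (g v + g v) + v := by abel
    rw [this, hB.vadd_self, add_zero]
  have hN4 : ∀ v, N (N (N (N v))) = 0 := by
    intro v
    rw [hN2, hN2, map_add, map_add, hg4]
    have : v + g (g v) + (g (g v) + v) = (v + v) + (g (g v) + g (g v)) := by abel
    rw [this, hB.vadd_self, hB.vadd_self, add_zero]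
  have had : ∀ u v, B (N u) (N v) = B (N u) v + B u (N v) := by
    intro u v
    simp only [hN, hB.add, hB.add']
    linear_combination hg u v
  have had2 : ∀ u v, B (N (N u)) (N (N v)) = B (N (N u)) v + B u (N (N v)) := by
    intro u v
    simp only [hN2, hB.add, hB.add']
    have e1 : B (g (g u)) (g (g v)) = B u v := by rw [hg, hg]
    linear_combination e1
  have hrange : ∀ (M : Module.End F V) v, M v ∈ LinearMap.range M := fun M v => ⟨v, rfl⟩
  -- `N³ ≠ 0`
  obtain ⟨u0, hu0⟩ : ∃ u, N (N (N u)) ≠ 0 := by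
    by_contra hcon
    push Not at hcon
    obtain ⟨v, hv⟩ := hg2
    have hv' : N (N v) ≠ 0 := by
      intro h
      rw [hN2, add_eq_zero_iff_eq_neg, hB.neg] at h
      exact hv h
    have h0 : ∀ u w, B (N (N u)) (N w) = 0 := by
      intro u w
      have h1 := had (N (N u)) w
      rw [hcon, hB.zero, hB.zero, zero_add] at h1
      exact h1.symm
    have h1 : ∀ u w, B (N (N u)) w = B (N u) (N w) := by
      intro u w
      have h2 := had (N u) w
      rw [h0] at h2
      linear_combination - h2 - B (N u) (N w) * hB.two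
    obtain ⟨w, hw⟩ : ∃ w, B (N (N v)) w ≠ 0 := by
      by_contra hcon'
      push Not at hcon'
      exact hv' (hB.nd _ hcon')
    -- `N² v`, `N² w` are independent
    have h2 : 2 ≤ finrank F (LinearMap.range (N * N)) := by
      refine two_le_of_indep (hrange (N * N) v) (hrange (N * N) w) hv' ?_
      intro c hc
      have hc' : N (N w) = c • N (N v) := hc
      apply hw
      rw [h1, hB.symm, ← h1, hc', hB.smul, h1, hB.alt, mul_zero]
    have h3 : LinearMap.range (N * N) ≤ LinearMap.ker N := by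
      rintro _ ⟨u, rfl⟩
      exact LinearMap.mem_ker.2 (hcon u)
    have h5 := Submodule.finrank_mono h3
    have h6 := LinearMap.finrank_range_add_finrank_ker N
    rw [h4] at h6
    have h7 : LinearMap.range (N * N) ≤ LinearMap.range N := by
      rintro _ ⟨u, rfl⟩
      exact ⟨N u, rfl⟩
    have h8 : LinearMap.range (N * N) = LinearMap.range N := Submodule.eq_of_le_of_finrank_le h7 (by omega)
    apply hv'
    have h9 : N v ∈ LinearMap.range (N * N) := by rw [h8]; exact ⟨v, rfl⟩
    exact LinearMap.mem_ker.1 (h3 h9)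
  have hpow : ∀ c : F, N (N (N u0)) ≠ c • N (N u0) := by
    intro c hc
    have h1 := congrArg N hc
    rw [hN4, map_smul] at h1
    rcases smul_eq_zero.1 h1.symm with h | h
    · rw [h, zero_smul] at hc
      exact hu0 hc
    · exact hu0 h
  have hNN0 : N (N u0) ≠ 0 := fun h => hu0 (by rw [h, map_zero])
  have ht : ∀ v, (g * g) v = g (g v) := fun v => rfl
  have hcm : ∀ v, N (N v) ∈ cm (g * g) := fun v => mem_cm.2 ⟨v, by rw [ht, hB.sub_eq, hN2]⟩
  refine ⟨fun v w => by rw [ht, ht, hg, hg], fun v => by rw [ht, ht, hg4], ?_, ?_⟩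
  · exact two_le_of_indep (hcm u0) (hcm (N u0)) hNN0 hpow
  · by_contra hcon
    push Not at hcon
    have h0 : ∀ u, B (N (N u)) u = 0 := by
      intro u
      have := hcon u
      rw [ht] at this
      rw [hN2, hB.add, hB.alt, this, add_zero]
    have h1 : ∀ u, B (N (N u)) (N u) = 0 := by
      intro u
      have h2 := had u (N u)
      rw [hB.alt, zero_add, hB.symm u, h0, hB.symm] at h2
      exact h2
    have h2 : ∀ u, B (N (N u)) (N (N (N u))) = 0 := by
      intro u
      have h3 := had2 u (N (N (N u)))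
      have h5 := had2 u (N u)
      rw [h1, zero_add] at h5
      have h6 := had2 u (N (N u))
      rw [hN4, hB.zero', hB.zero', hB.alt, add_zero] at h6
      -- use `B (N² a, N² b) = 0`
      have h7 : ∀ a b, B (N (N a)) (N (N b)) = 0 := by
        intro a b
        have h8 := had2 a (N (N b))
        rw [hN4, hB.zero', hB.zero', add_zero] at h8
        exact h8.symm
      exact h7 u (N u)
    -- `u0, N u0, N² u0, N³ u0` is a basis
    have hli : LinearIndependent F ![u0, N u0, N (N u0), N (N (N u0))] := by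
      rw [Fintype.linearIndependent_iff]
      intro c hc
      rw [Fin.sum_univ_four] at hc
      have hc' : c 0 • u0 + c 1 • N u0 + c 2 • N (N u0) + c 3 • N (N (N u0)) = 0 := hc
      have k0 : c 0 = 0 := by
        have := congrArg (fun v => N (N (N v))) hc'
        simp only [map_add, map_smul, map_zero, hN4, smul_zero, add_zero] at this
        exact (smul_eq_zero.1 this).resolve_right hu0
      rw [k0, zero_smul, zero_add] at hc'
      have k1 : c 1 = 0 := by
        have := congrArg (fun v => N (N v)) hc'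
        simp only [map_add, map_smul, map_zero, hN4, smul_zero, add_zero] at this
        exact (smul_eq_zero.1 this).resolve_right hu0
      rw [k1, zero_smul, zero_add] at hc'
      have k2 : c 2 = 0 := by
        have := congrArg (fun v => N v) hc'
        simp only [map_add, map_smul, map_zero, hN4, smul_zero, add_zero] at this
        exact (smul_eq_zero.1 this).resolve_right hu0
      rw [k2, zero_smul, zero_add] at hc'
      have k3 : c 3 = 0 := (smul_eq_zero.1 hc').resolve_right hu0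
      intro i
      fin_cases i
      · exact k0
      · exact k1
      · exact k2
      · exact k3
    let b := basisOfLinearIndependentOfCardEqFinrank hli (by rw [Fintype.card_fin, h4])
    have key : hB.bil (N (N u0)) = 0 := by
      apply b.ext
      intro i
      rw [LinearMap.zero_apply, hB.bil_apply]
      have hb : b i = ![u0, N u0, N (N u0), N (N (N u0))] i := by simp [b]
      rw [hb]
      fin_cases i
      · exact h0 u0
      · exact h1 u0
      · exact hB.alt _
      · exact h2 u0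
    exact hNN0 (hB.nd _ fun w => LinearMap.congr_fun key w)

end prod

end Cfsg.Agent.H427.Fc
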