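import Cfsg.Agent.H427.Fc.SpB

/-!
# `Sp₄(F)`, `F` finite of characteristic two, has no factorization `A M`, `A ≅ S ^ l` (helper427, S3679)

`T` acts faithfully as the full isometry group of `(V, B)`, `dim V = 4`, `A ≅ S ^ l`, `l ≥ 2`, `T = A M`:

* `main_quad`  : `M` does not fix a quadratic form;
* `main_field` : `M` does not normalise a self-adjoint quadratic field;
* `main_sz`    : not `|M|₂ = q²` with an element of order four in `M`.
-/

set_option autoImplicit false
set_option linter.unusedSectionVars false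

namespace Cfsg.Agent.H427.Fc

open Module Cfsg.Agent.H951

section grp

variable {T : Type*} [Group T] {S : Type*} [Group S] {l : ℕ} {A : Subgroup T} (e : A ≃* (Fin l → S))

/-- the `i`-th factor -/
def fe (i : Fin l) : S →* T :=
  A.subtype.comp (e.symm.toMonoidHom.comp (MonoidHom.mulSingle (fun _ : Fin l => S) i))

theorem fe_mem (i : Fin l) (s : S) : fe e i s ∈ A := (e.symm (Pi.mulSingle i s)).2

theorem fe_inj (i : Fin l) : Function.Injective (fe e i) := by
  intro a b h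
  have h1 : (Pi.mulSingle i a : Fin l → S) = Pi.mulSingle i b := e.symm.injective (Subtype.ext h)
  exact Pi.mulSingle_injective i h1

theorem fe_comm {i j : Fin l} (hij : i ≠ j) (a b : S) : fe e i a * fe e j b = fe e j b * fe e i a := by
  have h1 : (Pi.mulSingle i a : Fin l → S) * Pi.mulSingle j b = Pi.mulSingle j b * Pi.mulSingle i a :=
    Pi.mulSingle_commute (f := fun _ : Fin l => S) hij a b
  have h2 := congrArg e.symm h1
  rw [map_mul, map_mul] at h2
  exact congrArg Subtype.val h2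

theorem le_of_fe {H : Subgroup T} (h : ∀ i s, fe e i s ∈ H) : A ≤ H := by
  intro a ha
  have h1 : e ⟨a, ha⟩ ∈ H.comap (A.subtype.comp e.symm.toMonoidHom) :=
    Subgroup.pi_mem_of_mulSingle_mem _ fun i => h i (e ⟨a, ha⟩ i)
  have h2 : (A.subtype.comp e.symm.toMonoidHom) (e ⟨a, ha⟩) ∈ H := h1
  have h3 : (A.subtype.comp e.symm.toMonoidHom) (e ⟨a, ha⟩) = a := by
    change ((e.symm (e ⟨a, ha⟩) : A) : T) = a
    rw [e.symm_apply_apply]
  rwa [h3] at h2

/-- an element of odd prime order -/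
theorem exists_odd [Finite S] (hS : IsSimpleGroup S) (hSna : ¬ IsMulCommutative S) :
    ∃ (s : S) (p : ℕ), Odd p ∧ orderOf s = p ∧ s ≠ 1 := by
  rcases Nat.eq_two_pow_or_exists_odd_prime_and_dvd (Nat.card S) with ⟨k, hk⟩ | ⟨p, hp, hd, ho⟩
  · exfalso
    have : Fact (Nat.Prime 2) := ⟨Nat.prime_two⟩
    have : Nontrivial S := hS.toNontrivial
    have hc : Nontrivial (Subgroup.center S) := (IsPGroup.of_card hk).center_nontrivial
    rcases hS.eq_bot_or_eq_top_of_normal (Subgroup.center S) inferInstance with h | h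
    · exact (Subgroup.nontrivial_iff_ne_bot _).1 hc h
    · apply hSna
      refine ⟨⟨fun a b => ?_⟩⟩
      have hb : b ∈ Subgroup.center S := by rw [h]; trivial
      exact (Subgroup.mem_center_iff.1 hb a)
  · have : Fact p.Prime := ⟨hp⟩
    obtain ⟨s, hs⟩ := exists_prime_orderOf_dvd_card' (G := S) p hd
    refine ⟨s, p, ho, hs, ?_⟩
    rintro rfl
    rw [orderOf_one] at hs
    exact hp.one_lt.ne hs

/-- a Sylow `2`-subgroup and a central involution -/
theorem exists_syl [Finite S] (h2 : 2 ∣ Nat.card S) : ∃ (P : Subgroup S) (z : S), IsPGroup 2 P ∧ ¬ 2 ∣ P.index ∧ z ≠ 1 ∧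
    z * z = 1 ∧ ∀ g ∈ P, g * z = z * g := by
  have : Fact (Nat.Prime 2) := ⟨Nat.prime_two⟩
  let P : Sylow 2 S := default
  have hP : Nontrivial (P : Subgroup S) := by
    rw [Subgroup.nontrivial_iff_ne_bot]
    exact P.ne_bot_of_dvd_card h2
  have hc : Nontrivial (Subgroup.center (P : Subgroup S)) := P.isPGroup'.center_nontrivial
  have hcP : IsPGroup 2 (Subgroup.center (P : Subgroup S)) := P.isPGroup'.to_subgroup _
  have hd : 2 ∣ Nat.card (Subgroup.center (P : Subgroup S)) := by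
    obtain ⟨n, hn⟩ := IsPGroup.iff_card.1 hcP
    rw [hn]
    apply dvd_pow_self
    rintro rfl
    rw [pow_zero] at hn
    have := Finite.one_lt_card (α := Subgroup.center (P : Subgroup S))
    omega
  obtain ⟨z, hz⟩ := exists_prime_orderOf_dvd_card' (G := Subgroup.center (P : Subgroup S)) 2 hd
  have hz2 : z * z = 1 := by
    have h1 := pow_orderOf_eq_one z
    rwa [hz, pow_two] at h1
  refine ⟨P, ((z : (P : Subgroup S)) : S), P.isPGroup', P.not_dvd_index, ?_, ?_, ?_⟩
  · intro h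
    have h1 : z = 1 := Subtype.ext (Subtype.ext h)
    rw [h1, orderOf_one] at hz
    omega
  · exact congrArg (fun z : Subgroup.center (P : Subgroup S) => ((z : (P : Subgroup S)) : S)) hz2
  · intro g hg
    exact congrArg (fun z : (P : Subgroup S) => (z : S)) (Subgroup.mem_center_iff.1 z.2 ⟨g, hg⟩)

/-- the `2`-subgroup of `A` -/
theorem exists_two [Finite S] {P : Subgroup S} {z : S} (hP : IsPGroup 2 P) (hPi : ¬ 2 ∣ P.index)
    (hc : ∀ g ∈ P, g * z = z * g) : ∃ R : Subgroup T, R ≤ A ∧ IsPGroup 2 R ∧ (∀ i, ∀ g ∈ R, g * fe e i z = fe e i z * g) ∧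
      ∃ k, Nat.card A = Nat.card R * k ∧ ¬ 2 ∣ k := by
  have : Fact (Nat.Prime 2) := ⟨Nat.prime_two⟩
  let R0 : Subgroup (Fin l → S) := Subgroup.pi Set.univ fun _ => P
  let R1 : Subgroup A := R0.map e.symm.toMonoidHom
  let R : Subgroup T := R1.map A.subtype
  have hmem : ∀ g ∈ R, ∃ f : Fin l → S, (∀ i, f i ∈ P) ∧ ((e.symm f : A) : T) = g := by
    rintro _ ⟨_, ⟨f, hf, rfl⟩, rfl⟩
    exact ⟨f, fun i => hf i trivial, rfl⟩
  have hcard0 : Nat.card R0 = Nat.card P ^ l := by
    let E : R0 ≃ (Fin l → P) :=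
      { toFun := fun f i => ⟨f.1 i, f.2 i trivial⟩
        invFun := fun f => ⟨fun i => f i, fun i _ => (f i).2⟩
        left_inv := fun f => rfl
        right_inv := fun f => rfl }
    rw [Nat.card_congr E, Nat.card_pi]
    simp
  have hcardR : Nat.card R = Nat.card P ^ l := by
    rw [Subgroup.card_map_of_injective A.subtype_injective, Subgroup.card_map_of_injective e.symm.injective, hcard0]
  obtain ⟨n, hn⟩ := IsPGroup.iff_card.1 hP
  refine ⟨R, ?_, ?_, ?_, P.index ^ l, ?_, ?_⟩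
  · rintro _ ⟨a, -, rfl⟩
    exact a.2
  · apply IsPGroup.of_card (n := n * l)
    rw [hcardR, hn, pow_mul]
  · intro i g hg
    obtain ⟨f, hf, rfl⟩ := hmem g hg
    have h1 : f * Pi.mulSingle i z = Pi.mulSingle i z * f := by
      ext j
      rw [Pi.mul_apply, Pi.mul_apply]
      by_cases hj : j = i
      · subst hj
        rw [Pi.mulSingle_eq_same]
        exact hc _ (hf j)
      · rw [Pi.mulSingle_eq_of_ne (M := fun _ => S) hj, mul_one, one_mul]
    have h2 := congrArg e.symm h1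
    rw [map_mul, map_mul] at h2
    exact congrArg Subtype.val h2
  · rw [hcardR, ← mul_pow, Subgroup.card_mul_index, Nat.card_congr e.toEquiv, Nat.card_pi]
    simp
  · intro h
    exact hPi (Nat.prime_two.dvd_of_dvd_pow h)

end grp

variable {F : Type*} [Field F] {V : Type*} [AddCommGroup V] [Module F V] {B : V → V → F}
  [Finite F] [FiniteDimensional F V] {T : Type*} [Group T] {ρ : T →* Module.End F V} {S : Type*} [Group S] [Finite S]
  {l : ℕ} {A M : Subgroup T}

/-- the family of the factors -/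
theorem fam_fe (e : A ≃* (Fin l → S)) (hR : Rp B ρ) (hρ : Function.Injective ρ) :
    Fam B (fun i => ρ.comp (fe e i)) where
  inj := fun i => hρ.comp (fe_inj e i)
  comm := fun i j hij s t v => by
    change ρ (fe e i s) (ρ (fe e j t) v) = ρ (fe e j t) (ρ (fe e i s) v)
    rw [← Module.End.mul_apply, ← map_mul, fe_comm e hij, map_mul, Module.End.mul_apply]
  iso := fun i s v w => hR.iso _ v w

theorem rho_inv (ρ : T →* Module.End F V) (t : T) (v : V) : ρ t (ρ t⁻¹ v) = v := by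
  rw [← Module.End.mul_apply, ← map_mul, mul_inv_cancel, map_one]; rfl

theorem rho_inv' (ρ : T →* Module.End F V) (t : T) (v : V) : ρ t⁻¹ (ρ t v) = v := by
  rw [← Module.End.mul_apply, ← map_mul, inv_mul_cancel, map_one]; rfl

/-- invariance of a subspace -/
theorem inv_sub (e : A ≃* (Fin l → S)) {W : Submodule F V} (h : ∀ i s, ∀ w ∈ W, ρ (fe e i s) w ∈ W) :
    ∀ a ∈ A, ∀ w ∈ W, ρ a w ∈ W := by
  let H : Subgroup T :=
    { carrier := {t | ∀ w, ρ t w ∈ W ↔ w ∈ W}
      mul_mem' := fun {s t} hs ht w => by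
        rw [map_mul, Module.End.mul_apply, hs, ht]
      one_mem' := fun w => by rw [map_one]; rfl
      inv_mem' := fun {t} ht w => by
        rw [← ht (ρ t⁻¹ w), rho_inv] }
  have hle : A ≤ H := le_of_fe e fun i s w => by
    refine ⟨fun hw => ?_, h i s w⟩
    have := h i s⁻¹ _ hw
    rwa [map_inv, rho_inv'] at this
  exact fun a ha w hw => (hle ha w).2 hw

/-- invariance of a function -/
theorem inv_fun (e : A ≃* (Fin l → S)) {Q : V → F} (h : ∀ i s v, Q (ρ (fe e i s) v) = Q v) :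
    ∀ a ∈ A, ∀ v, Q (ρ a v) = Q v := by
  let H : Subgroup T :=
    { carrier := {t | ∀ v, Q (ρ t v) = Q v}
      mul_mem' := fun {s t} hs ht v => by
        rw [map_mul, Module.End.mul_apply, hs, ht]
      one_mem' := fun v => by rw [map_one]; rfl
      inv_mem' := fun {t} ht v => by
        rw [← ht (ρ t⁻¹ v), rho_inv] }
  have hle : A ≤ H := le_of_fe e h
  exact fun a ha => hle ha

/-- invariance of the two families -/
theorem inv_ev (hB : Sy B) (h4 : finrank F V = 4) (hS : IsSimpleGroup S) (hSna : ¬ IsMulCommutative S)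
    (e : A ≃* (Fin l → S)) {Q : V → F} (hQ : Qf B Q) (h : ∀ i s v, Q (ρ (fe e i s) v) = Q v) :
    ∀ a ∈ A, ∀ L : Submodule F V, Ln Q L → Ev L (L.map (ρ a)) := by
  have h3 : 3 ≤ Nat.card S := by
    obtain ⟨s, p, hp, hsp, hs1⟩ := exists_odd hS hSna
    have h1 : orderOf s ∣ Nat.card S := orderOf_dvd_natCard s
    have h2 := Nat.le_of_dvd Nat.card_pos h1
    have h5 : orderOf s ≠ 1 := by rwa [Ne, orderOf_eq_one_iff]
    obtain ⟨k, hk⟩ := hp
    omega
  have hmap : ∀ (s t : T) (L : Submodule F V), L.map (ρ (s * t)) = (L.map (ρ t)).map (ρ s) := map_mul_hom ρ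
  have hinj : ∀ t, Function.Injective (ρ t) := inj_of_hom ρ
  let H : Subgroup T :=
    { carrier := {t | (∀ v, Q (ρ t v) = Q v) ∧ ∀ L : Submodule F V, Ln Q L → Ev L (L.map (ρ t))}
      mul_mem' := fun {s t} hs ht => by
        refine ⟨fun v => by rw [map_mul, Module.End.mul_apply, hs.1, ht.1], fun L hL => ?_⟩
        have h1 : Ln Q (L.map (ρ t)) := hL.map _ (hinj t) ht.1
        rw [hmap]
        exact Ev.trans hB hQ h4 hL h1 (h1.map _ (hinj s) hs.1) (ht.2 L hL) (hs.2 _ h1)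
      one_mem' := by
        refine ⟨fun v => by rw [map_one]; rfl, fun L hL => ?_⟩
        rw [map_one_hom, Ev, inf_idem, hL.rk]
        decide
      inv_mem' := fun {t} ht => by
        have h1 : ∀ v, Q (ρ t⁻¹ v) = Q v := fun v => by rw [← ht.1 (ρ t⁻¹ v), rho_inv]
        refine ⟨h1, fun L hL => ?_⟩
        have h2 := ht.2 _ (hL.map _ (hinj t⁻¹) h1)
        rw [← hmap, mul_inv_cancel, map_one_hom] at h2
        exact h2.symm }
  have hle : A ≤ H := le_of_fe e fun i s => by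
    refine ⟨h i s, fun L hL => ?_⟩
    exact ev_simple hB hQ h4 hS h3 (ρ.comp (fe e i)) (h i) hL s
  exact fun a ha => (hle ha).2

/-- **`M` does not fix a quadratic form.** -/
theorem main_quad (hB : Sy B) (hR : Rp B ρ) (hρ : Function.Injective ρ) (h4 : finrank F V = 4)
    (h3 : 3 ≤ Nat.card F) (hl : 2 ≤ l) (hS : IsSimpleGroup S) (hSna : ¬ IsMulCommutative S)
    (e : A ≃* (Fin l → S)) (hAM : ∀ t : T, ∃ a ∈ A, ∃ m ∈ M, t = a * m) {Q1 : V → F} (hQ1 : Qf B Q1)
    (hM : ∀ m ∈ M, ∀ v, Q1 (ρ m v) = Q1 v) : False := by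
  have : Nontrivial (Fin l) := Fin.nontrivial_iff_two_le.2 hl
  obtain ⟨s, p, hp, hsp, hs1⟩ := exists_odd hS hSna
  by_cases hfx : ∀ i, fx (ρ.comp (fe e i) s) = ⊥
  · obtain ⟨Q, hQ, hQi, -⟩ := (fam_fe e hR hρ).quad hB h4 hS hSna hQ1 hp hsp hfx
    exact false_two_quad hB hR hAM hQ hQ1 (inv_fun e hQi) hM h3 (by omega)
  · push Not at hfx
    obtain ⟨i, hi⟩ := hfx
    obtain ⟨j, -, W, U, hWU, hperp, hW, hU, hWi, hUi, -, -⟩ := (fam_fe e hR hρ).plane hB h4 hS hSna hp hsp hs1 hi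
    have hW0 : W ≠ ⊥ := by
      rintro rfl
      rw [finrank_bot] at hW
      omega
    have hU0 : U ≠ ⊥ := by
      rintro rfl
      rw [finrank_bot] at hU
      omega
    obtain ⟨e1, he1, f1, hf1, hef1⟩ := exists_pair hB hWU.sup_eq_top hperp hW0
    obtain ⟨e2, he2, f2, hf2, hef2⟩ := exists_pair hB hWU.symm.sup_eq_top
      (fun u hu w hw => by rw [hB.symm]; exact hperp w hw u hu) hU0
    have hA := inv_sub e hWi
    exact false_plane hB hR hAM hQ1 hM hef1 hef2 (hperp _ he1 _ he2) (hperp _ he1 _ hf2) (hperp _ hf1 _ he2)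
      (hperp _ hf1 _ hf2) fun a ha =>
        ⟨plane_span hW he1 hf1 (hB.ne_smul hef1).1 (hB.ne_smul hef1).2 (hA a ha _ he1),
          plane_span hW he1 hf1 (hB.ne_smul hef1).1 (hB.ne_smul hef1).2 (hA a ha _ hf1)⟩

/-- **`M` does not normalise a quadratic field.** -/
theorem main_field (hB : Sy B) (hR : Rp B ρ) (hρ : Function.Injective ρ) (h4 : finrank F V = 4)
    (h3 : 3 ≤ Nat.card F) (hl : 2 ≤ l) (hS : IsSimpleGroup S) (hSna : ¬ IsMulCommutative S) (h2S : 2 ∣ Nat.card S)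
    (e : A ≃* (Fin l → S)) (hAM : ∀ t : T, ∃ a ∈ A, ∃ m ∈ M, t = a * m) {Q1 : V → F} (hQ1 : Qf B Q1)
    {k₀ : Module.End F V} {α β : F} (hK : Kf B k₀ α β)
    (hM : ∀ m ∈ M, (∀ v, ρ m (k₀ v) = k₀ (ρ m v)) ∨ ∀ v, ρ m (k₀ v) = k₀ (ρ m v) + α • ρ m v) : False := by
  have : Nontrivial (Fin l) := Fin.nontrivial_iff_two_le.2 hl
  obtain ⟨s, p, hp, hsp, hs1⟩ := exists_odd hS hSna
  by_cases hfx : ∀ i, fx (ρ.comp (fe e i) s) = ⊥
  · obtain ⟨Q, hQ, hQi, hln⟩ := (fam_fe e hR hρ).quad hB h4 hS hSna hQ1 hp hsp hfx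
    obtain ⟨P, z, -, -, hz1, hzz, -⟩ := exists_syl h2S
    exact false_field_quad hB hR h4 hAM hQ hK hM (inv_fun e hQi) (inv_ev hB h4 hS hSna e hQ hQi)
      (hln ⟨0, by omega⟩ z hz1 hzz)
  · push Not at hfx
    obtain ⟨i, hi⟩ := hfx
    obtain ⟨j, -, W, U, hWU, hperp, hW, hU, hWi, hUi, -, -⟩ := (fam_fe e hR hρ).plane hB h4 hS hSna hp hsp hs1 hi
    have hW0 : W ≠ ⊥ := by
      rintro rfl
      rw [finrank_bot] at hW
      omega
    obtain ⟨e1, he1, f1, hf1, hef1⟩ := exists_pair hB hWU.sup_eq_top hperp hW0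
    have hA := inv_sub e hWi
    exact false_field_plane hB hR hAM hK hM h3 hef1 fun a ha =>
      ⟨plane_span hW he1 hf1 (hB.ne_smul hef1).1 (hB.ne_smul hef1).2 (hA a ha _ he1),
        plane_span hW he1 hf1 (hB.ne_smul hef1).1 (hB.ne_smul hef1).2 (hA a ha _ hf1)⟩

/-- the order of the intersection -/
theorem card_fac [Finite T] (hAM : ∀ t : T, ∃ a ∈ A, ∃ m ∈ M, t = a * m) :
    Nat.card T * Nat.card (A ⊓ M : Subgroup T) = Nat.card A * Nat.card M := by
  have h3 : (M.subgroupOf A).index = M.index := by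
    have h4 : MulAction.orbit A ((1 : T) : T ⧸ M) = Set.univ := by
      ext z
      simp only [Set.mem_univ, iff_true]
      induction z using QuotientGroup.induction_on with
      | H t =>
        obtain ⟨x, hx, y, hy, rfl⟩ := hAM t
        refine ⟨⟨x, hx⟩, ?_⟩
        change ((x • (1 : T) : T) : T ⧸ M) = _
        rw [smul_eq_mul, mul_one]
        exact QuotientGroup.eq.mpr (by simpa using hy)
    have h5 : MulAction.stabilizer A ((1 : T) : T ⧸ M) = M.subgroupOf A := by
      ext a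
      rw [MulAction.mem_stabilizer_iff, Subgroup.mem_subgroupOf]
      change (((a : T) • (1 : T) : T) : T ⧸ M) = _ ↔ _
      rw [smul_eq_mul, mul_one, eq_comm, QuotientGroup.eq, inv_one, one_mul]
    rw [← h5, MulAction.index_stabilizer, h4, Set.ncard_univ]
    rfl
  have h6 := Subgroup.card_mul_index (M.subgroupOf A)
  have h7 : Nat.card (M.subgroupOf A) = Nat.card (A ⊓ M : Subgroup T) := by
    have h8 : (M.subgroupOf A).map A.subtype = A ⊓ M := by
      rw [Subgroup.subgroupOf_map_subtype, inf_comm]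
    rw [← h8, Subgroup.card_map_of_injective A.subtype_injective]
  rw [h7, h3] at h6
  rw [← Subgroup.card_mul_index M, ← h6]
  ring

/-- the numbers: all intersections have odd order -/
theorem odd_inf [Finite T] (hAM : ∀ t : T, ∃ a ∈ A, ∃ m ∈ M, t = a * m) {q r k n : ℕ} (hr : Nat.card A = r * k)
    (hrn : r = 2 ^ n) (hk : ¬ 2 ∣ k) (hq : ∃ f, q = 2 ^ f) (hrq : r ≤ q ^ 2) (hT : q ^ 4 ∣ Nat.card T)
    (hM2 : ¬ 2 * q ^ 2 ∣ Nat.card M) : ¬ 2 ∣ Nat.card (A ⊓ M : Subgroup T) := by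
  intro h
  obtain ⟨f, hf⟩ := hq
  have h1 := card_fac hAM
  have h2 : q ^ 4 * 2 ∣ Nat.card A * Nat.card M := h1 ▸ mul_dvd_mul hT h
  have h3 : r ∣ q ^ 2 := by
    rw [hrn, hf, ← pow_mul]
    apply pow_dvd_pow
    rw [hrn, hf, ← pow_mul] at hrq
    exact (Nat.pow_le_pow_iff_right (by norm_num)).1 hrq
  have hq0 : 0 < q := by rw [hf]; positivity
  have h4 : q ^ 4 * 2 ∣ q ^ 2 * Nat.card M := by
    have h5 : q ^ 4 * 2 ∣ k * (r * Nat.card M) := by
      have : k * (r * Nat.card M) = Nat.card A * Nat.card M := by rw [hr]; ring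
      rw [this]
      exact h2
    have h6 : Nat.Coprime (q ^ 4 * 2) k := by
      have h7 : Nat.Coprime 2 k := (Nat.Prime.coprime_iff_not_dvd Nat.prime_two).2 hk
      refine Nat.Coprime.mul_left ?_ h7
      rw [hf]
      exact ((h7.pow_left f).pow_left 4)
    exact (h6.dvd_of_dvd_mul_left h5).trans (mul_dvd_mul_right h3 _)
  apply hM2
  have h5 : q ^ 4 * 2 = q ^ 2 * (2 * q ^ 2) := by ring
  rw [h5] at h4
  exact Nat.dvd_of_mul_dvd_mul_left (by positivity) h4

/-- the restriction of the representation to a subgroup -/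
theorem sub_inj (hρ : Function.Injective ρ) (R : Subgroup T) : Function.Injective (ρ.comp R.subtype) :=
  hρ.comp R.subtype_injective

/-- **The Suzuki case.** -/
theorem main_sz [Finite T] (hB : Sy B) (hR : Rp B ρ) (hρ : Function.Injective ρ) (h4 : finrank F V = 4)
    (hl : 2 ≤ l) (hS : IsSimpleGroup S) (hSna : ¬ IsMulCommutative S) (h2S : 2 ∣ Nat.card S)
    (e : A ≃* (Fin l → S)) (hAM : ∀ t : T, ∃ a ∈ A, ∃ m ∈ M, t = a * m) {Q1 : V → F} (hQ1 : Qf B Q1)
    (hq : ∃ f, Nat.card F = 2 ^ f) (hT : Nat.card F ^ 4 ∣ Nat.card T) (hM2 : ¬ 2 * Nat.card F ^ 2 ∣ Nat.card M)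
    {x : T} (hx : x ∈ M) (hx4 : orderOf x = 4) : False := by
  have : Nontrivial (Fin l) := Fin.nontrivial_iff_two_le.2 hl
  have : Finite V := Module.finite_of_finite F
  obtain ⟨s, p, hp, hsp, hs1⟩ := exists_odd hS hSna
  obtain ⟨P, z, hP, hPi, hz1, hzz, hzc⟩ := exists_syl h2S
  obtain ⟨R, hRA, hR2, hRc, k, hk, hk2⟩ := exists_two e hP hPi hzc
  have hfam := fam_fe e hR hρ
  have hzz' : ∀ i v, ρ (fe e i z) (ρ (fe e i z) v) = v := fun i v => by
    rw [← Module.End.mul_apply, ← map_mul, ← map_mul, hzz, map_one, map_one]; rfl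
  have hzm : ∀ i, ∃ v, ρ (fe e i z) v ≠ v := by
    intro i
    by_contra hcon
    push Not at hcon
    apply hz1
    apply hfam.inj i
    rw [map_one]
    ext v
    exact hcon v
  -- both cases: `|R| ≤ q²` and a product of type `c₂`
  obtain ⟨hRq, t, htA, htC⟩ : Nat.card R ≤ Nat.card F ^ 2 ∧ ∃ t ∈ A, TyC B (ρ t) := by
    by_cases hfx : ∀ i, fx (ρ.comp (fe e i) s) = ⊥
    · obtain ⟨Q, hQ, hQi, hln⟩ := hfam.quad hB h4 hS hSna hQ1 hp hsp hfx
      have hQA := inv_fun e hQi
      obtain ⟨i, j, hij⟩ := exists_pair_ne (Fin l)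
      have hL1 : Ln Q (cm (ρ (fe e i z))) := hln i z hz1 hzz
      have hL2 : Ln Q (cm (ρ (fe e j z))) := hln j z hz1 hzz
      -- `φ j z` is not trivial on `L1`
      have hinv : ∀ t, ∀ w ∈ cm (ρ (fe e i z)), (ρ.comp (fe e j)) t w ∈ cm (ρ (fe e i z)) := by
        intro t w hw
        obtain ⟨u, rfl⟩ := mem_cm.1 hw
        refine mem_cm.2 ⟨(ρ.comp (fe e j)) t u, ?_⟩
        have := hfam.comm i j hij z t u
        rw [map_sub]
        congr 1
      obtain ⟨w, hw, hwne⟩ : ∃ w ∈ cm (ρ (fe e i z)), ρ (fe e j z) w ≠ w := by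
        by_contra hcon
        push Not at hcon
        have h1 := kr_eq_top' hS hinv hz1 hcon s
        have h2 : cm (ρ (fe e i z)) ≤ fx (ρ.comp (fe e j) s) := fun w hw => mem_fx.2 (h1 w hw)
        rw [hfx j, le_bot_iff] at h2
        have := hL1.rk
        rw [h2, finrank_bot] at this
        omega
      have hty := tyC_quad hB hQ (hR.iso (fe e i z)) (hR.iso (fe e j z)) (hQi i z) (hQi j z) (hzz' i) (hzz' j)
        (hfam.comm i j hij z z) hL1 hL2 hw hwne
      refine ⟨?_, fe e i z * fe e j z, A.mul_mem (fe_mem e i z) (fe_mem e j z), by rw [map_mul]; exact hty.1⟩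
      have hcomm : ∀ i, ∀ g : R, ∀ w ∈ cm (ρ (fe e i z)), (ρ.comp R.subtype) g w ∈ cm (ρ (fe e i z)) := by
        intro i g w hw
        obtain ⟨u, rfl⟩ := mem_cm.1 hw
        refine mem_cm.2 ⟨ρ g u, ?_⟩
        change _ = ρ g (_ - _)
        rw [map_sub, ← Module.End.mul_apply, ← map_mul, ← hRc i g g.2, map_mul, Module.End.mul_apply]
      exact card_le_quad hB h4 hR2 (sub_inj hρ R) (fun g => hR.iso g) hQ (fun g => hQA g (hRA g.2)) hL1 hL2
        (hcomm i) (hcomm j) hty.2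
    · push Not at hfx
      obtain ⟨i, hi⟩ := hfx
      obtain ⟨j, hij, W, U, hWU, hperp, hW, hU, hWi, hUi, hiW, hjU⟩ := hfam.plane hB h4 hS hSna hp hsp hs1 hi
      have hWA := inv_sub e hWi
      have hUA := inv_sub e hUi
      refine ⟨card_le_plane hB hR2 (sub_inj hρ R) (fun g => hR.iso g) hWU hperp hW hU
        (fun g => hWA g (hRA g.2)) (fun g => hUA g (hRA g.2)), fe e i z * fe e j z,
        A.mul_mem (fe_mem e i z) (fe_mem e j z), ?_⟩
      rw [map_mul]
      exact tyC_plane hB (hR.iso (fe e i z)) (hR.iso (fe e j z)) (hzz' i) (hzz' j) (hfam.comm i j hij z z) hWU hW hU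
        hperp (hiW z) (hjU z) (hUi i z) (hWi j z) (hzm i) (hzm j)
  -- the element of `M`
  have hx4' : ∀ v, ρ x (ρ x (ρ x (ρ x v))) = v := by
    intro v
    simp only [← Module.End.mul_apply, ← map_mul]
    have h1 := pow_orderOf_eq_one x
    rw [hx4] at h1
    have h2 : x * (x * (x * x)) = x ^ 4 := by
      rw [pow_succ', pow_succ', pow_two]
    rw [h2, h1, map_one]
    rfl
  have hx2 : ∃ v, ρ x (ρ x v) ≠ v := by
    by_contra hcon
    push Not at hcon
    have h1 : x ^ 2 = 1 := by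
      apply hρ
      rw [map_one]
      ext v
      rw [pow_two, map_mul]
      exact hcon v
    have h2 := orderOf_dvd_of_pow_eq_one h1
    rw [hx4] at h2
    omega
  have htC' : TyC B (ρ (x * x)) := by
    rw [map_mul]
    exact tyC_sq hB h4 (hR.iso x) hx4' hx2
  obtain ⟨g, hg, hgt⟩ := htC'.conj hB h4 htC
  obtain ⟨y, hy⟩ := hR.full g hg
  have hconj : y * (x * x) * y⁻¹ = t := by
    rw [mul_inv_eq_iff_eq_mul]
    apply hρ
    ext v
    rw [map_mul ρ y, map_mul ρ t, Module.End.mul_apply, Module.End.mul_apply, hy]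
    exact hgt v
  -- conclusion
  let M' : Subgroup T := M.map (MulAut.conj y).toMonoidHom
  have hM'c : Nat.card M' = Nat.card M := Subgroup.card_map_of_injective (MulAut.conj y).injective
  have hAM' : ∀ t : T, ∃ a ∈ A, ∃ m ∈ M', t = a * m := by
    intro t
    obtain ⟨a, ha, m, hm, hx⟩ := fac_conj hAM y t
    exact ⟨a, ha, _, ⟨m, hm, rfl⟩, hx⟩
  obtain ⟨n, hn⟩ := IsPGroup.iff_card.1 hR2
  refine odd_inf hAM' hk hn hk2 hq hRq hT (by rw [hM'c]; exact hM2) ?_
  have htm : t ∈ A ⊓ M' := by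
    refine ⟨htA, x * x, M.mul_mem hx hx, ?_⟩
    exact hconj
  have ht2 : orderOf (⟨t, htm⟩ : (A ⊓ M' : Subgroup T)) = 2 := by
    apply orderOf_eq_prime
    · apply Subtype.ext
      change t ^ 2 = 1
      apply hρ
      rw [map_one]
      ext v
      rw [pow_two, map_mul]
      exact htC.inv v
    · intro h
      have h1 : t = 1 := congrArg Subtype.val h
      have h2 := htC.rk
      rw [h1, map_one, cm, sub_self, LinearMap.range_zero, finrank_bot] at h2
      omega
  rw [← ht2]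
  exact orderOf_dvd_natCard _

end Cfsg.Agent.H427.Fc
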