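import Cfsg.Agent.H427.Fc.SpK

/-!
# Hyperbolic quadruples, the two families (helper427, S3679)

* `Hyp B x₁ x₂ y₁ y₂` : standard Gram matrix; `Hyp.exists_iso`, `exists_hyp` (a totally isotropic plane extends);
* `ev_simple` : a simple group of isometries preserves the two families of totally singular planes;
* `false_field_quad` : `T = A M`, `M` normalises `F[k₀]`, `A` fixes a quadratic form, the two families, and there is a
  totally singular plane: impossible.
-/

set_option autoImplicit false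
set_option linter.unusedSectionVars false

namespace Cfsg.Agent.H427.Fc

open Module

variable {F : Type*} [Field F] {V : Type*} [AddCommGroup V] [Module F V] {B : V → V → F}

/-- a hyperbolic quadruple -/
structure Hyp (B : V → V → F) (x1 x2 y1 y2 : V) : Prop where
  xx : B x1 x2 = 0
  yy : B y1 y2 = 0
  x1y1 : B x1 y1 = 1
  x2y2 : B x2 y2 = 1
  x1y2 : B x1 y2 = 0
  x2y1 : B x2 y1 = 0

/-- the bilinear form -/
def Sy.bil (hB : Sy B) : LinearMap.BilinForm F V := LinearMap.mk₂ F B hB.add hB.smul hB.add' fun c v w => by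
  rw [hB.smul', smul_eq_mul]

theorem Sy.bil_apply (hB : Sy B) (v w : V) : hB.bil v w = B v w := rfl

theorem Hyp.exists_basis (hB : Sy B) (h4 : finrank F V = 4) {x1 x2 y1 y2 : V} (h : Hyp B x1 x2 y1 y2) :
    ∃ b : Basis (Fin 4) F V, b 0 = x1 ∧ b 1 = x2 ∧ b 2 = y1 ∧ b 3 = y2 := by
  have : FiniteDimensional F V := FiniteDimensional.of_finrank_pos (by omega)
  have hli : LinearIndependent F ![x1, x2, y1, y2] := by
    rw [Fintype.linearIndependent_iff]
    intro g hg
    rw [Fin.sum_univ_four] at hg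
    have hg' : g 0 • x1 + g 1 • x2 + g 2 • y1 + g 3 • y2 = 0 := hg
    have k1 : g 0 = 0 := by
      have := congrArg (fun v => B v y1) hg'
      simp only [hB.add, hB.smul, hB.zero, h.x1y1, h.x2y1, hB.alt, hB.symm y2 y1, h.yy, mul_zero, add_zero, mul_one] at this
      exact this
    have k2 : g 1 = 0 := by
      have := congrArg (fun v => B v y2) hg'
      simp only [hB.add, hB.smul, hB.zero, h.x1y2, h.x2y2, hB.alt, h.yy, mul_zero, add_zero, mul_one, zero_add] at this
      exact this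
    have k3 : g 2 = 0 := by
      have := congrArg (fun v => B v x1) hg'
      simp only [hB.add, hB.smul, hB.zero, hB.symm y1 x1, hB.symm y2 x1, hB.symm x2 x1, h.x1y1, h.x1y2, hB.alt, h.xx,
        mul_zero, add_zero, mul_one, zero_add] at this
      exact this
    have k4 : g 3 = 0 := by
      have := congrArg (fun v => B v x2) hg'
      simp only [hB.add, hB.smul, hB.zero, hB.symm y1 x2, hB.symm y2 x2, h.x2y1, h.x2y2, hB.alt, h.xx,
        mul_zero, add_zero, mul_one, zero_add] at this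
      exact this
    intro i
    fin_cases i
    · exact k1
    · exact k2
    · exact k3
    · exact k4
  let b := basisOfLinearIndependentOfCardEqFinrank hli (by rw [Fintype.card_fin, h4])
  refine ⟨b, ?_, ?_, ?_, ?_⟩ <;> simp [b]

/-- **Witt's theorem for hyperbolic quadruples.** -/
theorem Hyp.exists_iso (hB : Sy B) (h4 : finrank F V = 4) {x1 x2 y1 y2 x1' x2' y1' y2' : V} (h : Hyp B x1 x2 y1 y2)
    (h' : Hyp B x1' x2' y1' y2') : ∃ g : V ≃ₗ[F] V, (∀ v w, B (g v) (g w) = B v w) ∧ g x1 = x1' ∧ g x2 = x2' ∧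
      g y1 = y1' ∧ g y2 = y2' := by
  obtain ⟨b, h0, h1, h2, h3⟩ := h.exists_basis hB h4
  obtain ⟨b', h0', h1', h2', h3'⟩ := h'.exists_basis hB h4
  let g := b.equiv b' (Equiv.refl _)
  have hg : ∀ i, g (b i) = b' i := fun i => by simp [g]
  refine ⟨g, ?_, by rw [← h0, hg, h0'], by rw [← h1, hg, h1'], by rw [← h2, hg, h2'], by rw [← h3, hg, h3']⟩
  have key : hB.bil.compl₁₂ (g : V →ₗ[F] V) (g : V →ₗ[F] V) = hB.bil := by
    apply LinearMap.BilinForm.ext_basis b
    intro i j
    rw [LinearMap.compl₁₂_apply]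
    change B (g (b i)) (g (b j)) = B (b i) (b j)
    rw [hg, hg]
    fin_cases i <;> fin_cases j <;>
      simp only [Fin.zero_eta, Fin.mk_one, Fin.reduceFinMk, Fin.isValue, h0, h1, h2, h3, h0', h1', h2', h3', hB.alt, h.xx, h'.xx, h.yy, h'.yy,
        h.x1y1, h'.x1y1, h.x2y2, h'.x2y2, h.x1y2, h'.x1y2, h.x2y1, h'.x2y1, hB.symm x2 x1, hB.symm x2' x1',
        hB.symm y2 y1, hB.symm y2' y1', hB.symm y1 x1, hB.symm y1' x1', hB.symm y2 x2, hB.symm y2' x2',
        hB.symm y2 x1, hB.symm y2' x1', hB.symm y1 x2, hB.symm y1' x2']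
  intro v w
  have := LinearMap.congr_fun₂ key v w
  exact this

/-- a vector with given products -/
theorem exists_dual (hB : Sy B) [FiniteDimensional F V] {x1 x2 : V} (hx1 : ∀ c : F, x1 ≠ c • x2) :
    ∃ y, B x1 y = 1 ∧ B x2 y = 0 := by
  have h1 : (Submodule.mkQ (F ∙ x2)) x1 ≠ 0 := by
    intro h
    rw [Submodule.mkQ_apply, Submodule.Quotient.mk_eq_zero] at h
    obtain ⟨c, hc⟩ := Submodule.mem_span_singleton.1 h
    exact hx1 c hc.symm
  obtain ⟨φ, hφ⟩ : ∃ φ : Module.Dual F (V ⧸ (F ∙ x2)), φ ((Submodule.mkQ (F ∙ x2)) x1) ≠ 0 := by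
    by_contra hcon
    push Not at hcon
    exact h1 ((Module.forall_dual_apply_eq_zero_iff F _).1 hcon)
  set c := φ ((Submodule.mkQ (F ∙ x2)) x1) with hc
  obtain ⟨y, hy⟩ := hB.exists_rep (c⁻¹ • (φ.comp (Submodule.mkQ (F ∙ x2))))
  refine ⟨y, ?_, ?_⟩
  · rw [← hy, LinearMap.smul_apply, LinearMap.comp_apply, ← hc, smul_eq_mul, inv_mul_cancel₀ hφ]
  · rw [← hy, LinearMap.smul_apply, LinearMap.comp_apply]
    have : (Submodule.mkQ (F ∙ x2)) x2 = 0 := by
      rw [Submodule.mkQ_apply, Submodule.Quotient.mk_eq_zero]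
      exact Submodule.mem_span_singleton_self x2
    rw [this, map_zero, smul_zero]

/-- a totally isotropic plane extends to a hyperbolic quadruple -/
theorem exists_hyp (hB : Sy B) [FiniteDimensional F V] {x1 x2 : V} (h0 : x2 ≠ 0) (hx1 : ∀ c : F, x1 ≠ c • x2)
    (hxx : B x1 x2 = 0) : ∃ y1 y2, Hyp B x1 x2 y1 y2 := by
  obtain ⟨y1, h1, h2⟩ := exists_dual hB hx1
  have hx2 : ∀ c : F, x2 ≠ c • x1 := by
    intro c hc
    have hc0 : c ≠ 0 := by
      rintro rfl
      exact h0 (by rw [hc, zero_smul])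
    apply hx1 c⁻¹
    rw [hc, smul_smul, inv_mul_cancel₀ hc0, one_smul]
  obtain ⟨y2, h3, h4⟩ := exists_dual hB hx2
  refine ⟨y1, y2 + B y1 y2 • x1, hxx, ?_, h1, ?_, ?_, h2⟩
  · rw [hB.add', hB.smul', hB.symm y1 x1, h1, mul_one]
    exact add_self hB.two _
  · rw [hB.add', hB.smul', hB.symm x2 x1, hxx, h3, mul_zero, add_zero]
  · rw [hB.add', hB.smul', hB.alt, h4, mul_zero, add_zero]

section fam

variable {Q : V → F} [FiniteDimensional F V]

theorem finrank_map_inj {W : Type*} [AddCommGroup W] [Module F W] (g : W →ₗ[F] V) (hg : Function.Injective g)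
    (L : Submodule F W) : finrank F (L.map g) = finrank F L :=
  (LinearEquiv.finrank_eq (Submodule.equivMapOfInjective g hg L)).symm

theorem Ln.map (g : Module.End F V) (hg : Function.Injective g) (hQg : ∀ v, Q (g v) = Q v) {L : Submodule F V}
    (hL : Ln Q L) : Ln Q (L.map g) := by
  constructor
  · rw [finrank_map_inj g hg, hL.rk]
  · rintro _ ⟨v, hv, rfl⟩
    rw [hQg]
    exact hL.sg v hv

theorem Ev.map_iff (g : Module.End F V) (hg : Function.Injective g) {L L' : Submodule F V} :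
    Ev (L.map g) (L'.map g) ↔ Ev L L' := by
  rw [Ev, Ev, ← Submodule.map_inf g hg, finrank_map_inj g hg]

theorem inj_of_hom {S : Type*} [Group S] (φ : S →* Module.End F V) (s : S) : Function.Injective (φ s) := by
  intro v w h
  have h1 : ∀ u, φ s⁻¹ (φ s u) = u := fun u => by
    rw [← Module.End.mul_apply, ← map_mul, inv_mul_cancel, map_one]; rfl
  rw [← h1 v, h, h1]

theorem map_mul_hom {S : Type*} [Group S] (φ : S →* Module.End F V) (s t : S) (L : Submodule F V) :
    L.map (φ (s * t)) = (L.map (φ t)).map (φ s) := by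
  rw [map_mul, ← Submodule.map_comp]
  rfl

theorem map_one_hom {S : Type*} [Group S] (φ : S →* Module.End F V) (L : Submodule F V) : L.map (φ 1) = L := by
  rw [map_one]
  exact Submodule.map_id L

/-- **A simple group preserves the two families.** -/
theorem ev_simple (hB : Sy B) (hQ : Qf B Q) (h4 : finrank F V = 4) {S : Type*} [Group S] [Finite S]
    (hS : IsSimpleGroup S) (h3 : 3 ≤ Nat.card S) (φ : S →* Module.End F V) (hφ : ∀ s v, Q (φ s v) = Q v)
    {L : Submodule F V} (hL : Ln Q L) (s : S) : Ev L (L.map (φ s)) := by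
  have hLm : ∀ s, Ln Q (L.map (φ s)) := fun s => hL.map (φ s) (inj_of_hom φ s) (hφ s)
  have hLL : Ev L L := by rw [Ev, inf_idem, hL.rk]; decide
  -- odd, odd
  have hoo : ∀ s t, ¬ Ev L (L.map (φ s)) → ¬ Ev L (L.map (φ t)) → Ev L (L.map (φ (s⁻¹ * t))) := by
    intro s t hs ht
    have h1 : Ev (L.map (φ s)) (L.map (φ t)) :=
      Ev.odd_odd hB hQ h4 (hLm s) hL (hLm t) (fun h => hs h.symm) ht
    rw [← Ev.map_iff (φ s⁻¹) (inj_of_hom φ _), ← map_mul_hom, ← map_mul_hom, inv_mul_cancel, map_one_hom] at h1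
    exact h1
  let H : Subgroup S :=
    { carrier := {s | Ev L (L.map (φ s))}
      mul_mem' := fun {s t} hs ht => by
        have h1 : Ev (L.map (φ s)) (L.map (φ (s * t))) := by
          rw [map_mul_hom, Ev.map_iff (φ s) (inj_of_hom φ s)]
          exact ht
        exact Ev.trans hB hQ h4 hL (hLm s) (hLm _) hs h1
      one_mem' := by
        change Ev L (L.map (φ 1))
        rw [map_one_hom]
        exact hLL
      inv_mem' := fun {s} hs => by
        have h1 : Ev L (L.map (φ s)) := hs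
        rw [← Ev.map_iff (φ s⁻¹) (inj_of_hom φ _), ← map_mul_hom, inv_mul_cancel, map_one_hom] at h1
        exact h1.symm }
  have hmem : ∀ s, s ∈ H ↔ Ev L (L.map (φ s)) := fun s => Iff.rfl
  have hoo' : ∀ s t, s ∉ H → t ∉ H → s⁻¹ * t ∈ H := hoo
  have hnorm : H.Normal := by
    refine ⟨fun n hn g => ?_⟩
    by_cases hg : g ∈ H
    · exact H.mul_mem (H.mul_mem hg hn) (H.inv_mem hg)
    · have h1 : (g * n)⁻¹ ∉ H := by
        rw [H.inv_mem_iff]
        intro h
        apply hg
        have := H.mul_mem h (H.inv_mem hn)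
        rwa [mul_inv_cancel_right] at this
      have h2 : g⁻¹ ∉ H := by rwa [H.inv_mem_iff]
      have := hoo' _ _ h1 h2
      rwa [inv_inv] at this
  rcases hS.eq_bot_or_eq_top_of_normal H hnorm with h | h
  · exfalso
    have := hS.toNontrivial
    obtain ⟨g, hg⟩ := exists_ne (1 : S)
    have hn : ∀ x : S, x ≠ 1 → x ∉ H := fun x hx hxH => by
      rw [h, Subgroup.mem_bot] at hxH
      exact hx hxH
    have h5 : ∀ x : S, x ≠ 1 → x = g := by
      intro x hx
      have := hoo' g x (hn g hg) (hn x hx)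
      rw [h, Subgroup.mem_bot, inv_mul_eq_one] at this
      exact this.symm
    have h6 : Nat.card S ≤ Nat.card Bool := by
      classical
      refine Nat.card_le_card_of_injective (fun x : S => decide (x = 1)) ?_
      intro x y hxy
      have hxy' : (x = 1) ↔ (y = 1) := by simpa using hxy
      by_cases hx : x = 1
      · rw [hx, hxy'.1 hx]
      · rw [h5 x hx, h5 y fun hy => hx (hxy'.2 hy)]
    rw [Nat.card_eq_fintype_card (α := Bool), Fintype.card_bool] at h6
    omega
  · have : s ∈ H := by rw [h]; trivial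
    exact this

variable {T : Type*} [Group T] {ρ : T →* Module.End F V} {A M : Subgroup T} {k₀ : Module.End F V} {α β : F}

/-- a factorization with a conjugate -/
theorem fac_conj (hAM : ∀ t : T, ∃ a ∈ A, ∃ m ∈ M, t = a * m) (g t : T) : ∃ a ∈ A, ∃ m ∈ M, t = a * (g * m * g⁻¹) := by
  obtain ⟨a0, ha0, m0, hm0, h0⟩ := hAM g
  obtain ⟨a1, ha1, m1, hm1, h1⟩ := hAM (t * a0)
  refine ⟨a1 * a0⁻¹, A.mul_mem ha1 (A.inv_mem ha0), m0⁻¹ * m1 * m0, M.mul_mem (M.mul_mem (M.inv_mem hm0) hm1) hm0, ?_⟩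
  have h2 : t = a1 * m1 * a0⁻¹ := by rw [← h1, mul_inv_cancel_right]
  rw [h2, h0]
  group

/-- the case of an invariant totally singular plane -/
theorem false_field_quad_aux (hB : Sy B) (hR : Rp B ρ) (h4 : finrank F V = 4)
    (hAM : ∀ t : T, ∃ a ∈ A, ∃ m ∈ M, t = a * m) (hQ : Qf B Q) (hK : Kf B k₀ α β)
    (hM : ∀ m ∈ M, (∀ v, ρ m (k₀ v) = k₀ (ρ m v)) ∨ ∀ v, ρ m (k₀ v) = k₀ (ρ m v) + α • ρ m v)
    (hA : ∀ a ∈ A, ∀ v, Q (ρ a v) = Q v) (hev : ∀ a ∈ A, ∀ L : Submodule F V, Ln Q L → Ev L (L.map (ρ a)))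
    {L : Submodule F V} (hL : Ln Q L) (hLk : ∀ v ∈ L, k₀ v ∈ L) : False := by
  -- a nonsingular vector
  obtain ⟨z, hz⟩ : ∃ z, Q z ≠ 0 := by
    by_contra hcon
    push Not at hcon
    have h5 : ∀ v : V, v = 0 := fun v => hB.nd v fun w => by
      have := hQ.polar v w
      rw [hcon, hcon, hcon, zero_add, zero_add] at this
      exact this.symm
    have h6 : Subsingleton V := ⟨fun a b => by rw [h5 a, h5 b]⟩
    rw [finrank_zero_of_subsingleton] at h4
    omega
  set c := (Q z)⁻¹ with hc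
  have hc0 : c ≠ 0 := inv_ne_zero hz
  have hQt : ∀ v, Q (hB.tv z c v) = Q v := by
    intro v
    rw [hQ.tv hB]
    have h5 : c * Q z = 1 := inv_mul_cancel₀ hz
    linear_combination (c * (B v z * B v z)) * h5 + (c * (B v z * B v z)) * hB.two
  obtain ⟨a, ha, m, hm, ham⟩ := exists_inv hB hR hAM z c
  -- `L` and `τ L`
  have hzL : z ∉ L := fun h => hz (hL.sg z h)
  have hodd : ¬ Ev L (L.map (ρ m * ρ a)) := by
    rw [Ev, not_not]
    have hτ : ∀ v, (ρ m * ρ a) v = v + (c * B v z) • z := fun v => by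
      rw [Module.End.mul_apply, ham, hB.tv_apply]
    let g : L →ₗ[F] F := (hB.fn z).comp L.subtype
    have hg : LinearMap.range g ≠ ⊥ := by
      intro h
      rw [LinearMap.range_eq_bot] at h
      -- `L + F z` is totally isotropic
      have h5 : ∀ x ∈ L ⊔ (F ∙ z), ∀ y ∈ L ⊔ (F ∙ z), B x y = 0 := by
        have hLz : ∀ x ∈ L, B x z = 0 := fun x hx => LinearMap.congr_fun h ⟨x, hx⟩
        intro x hx y hy
        obtain ⟨x1, hx1, x2, hx2, rfl⟩ := Submodule.mem_sup.1 hx
        obtain ⟨y1, hy1, y2, hy2, rfl⟩ := Submodule.mem_sup.1 hy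
        obtain ⟨p, rfl⟩ := Submodule.mem_span_singleton.1 hx2
        obtain ⟨q, rfl⟩ := Submodule.mem_span_singleton.1 hy2
        rw [hB.add, hB.add', hB.add', hB.smul, hB.smul, hB.smul', hB.smul', hL.iso hQ hx1 hy1, hB.symm z y1,
          hLz x1 hx1, hLz y1 hy1, hB.alt]
        ring
      have h6 := finrank_le_two hB h4 h5
      have h7 : L = L ⊔ (F ∙ z) := Submodule.eq_of_le_of_finrank_le le_sup_left (by rw [hL.rk]; exact h6)
      apply hzL
      rw [h7]
      exact Submodule.mem_sup_right (Submodule.mem_span_singleton_self z)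
    have hrg : finrank F (LinearMap.range g) = 1 := by
      have h5 : finrank F (LinearMap.range g) ≤ 1 := by
        have := Submodule.finrank_le (LinearMap.range g)
        rwa [finrank_self] at this
      have h6 : finrank F (LinearMap.range g) ≠ 0 := fun h => hg (Submodule.finrank_eq_zero.1 h)
      omega
    have hkg : finrank F (LinearMap.ker g) = 1 := by
      have h5 := LinearMap.finrank_range_add_finrank_ker g
      rw [hL.rk] at h5
      omega
    have heq : L ⊓ L.map (ρ m * ρ a) = (LinearMap.ker g).map L.subtype := by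
      ext v
      constructor
      · rintro ⟨hv, w, hw, hwv⟩
        rw [hτ] at hwv
        have h5 : (c * B w z) • z ∈ L := by
          have : (c * B w z) • z = v - w := by rw [← hwv]; abel
          rw [this]
          exact L.sub_mem hv hw
        have h6 : B w z = 0 := by
          by_contra hne
          apply hzL
          have := L.smul_mem (c * B w z)⁻¹ h5
          rwa [smul_smul, inv_mul_cancel₀ (mul_ne_zero hc0 hne), one_smul] at this
        rw [h6, mul_zero, zero_smul, add_zero] at hwv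
        subst hwv
        exact ⟨⟨w, hw⟩, LinearMap.mem_ker.2 h6, rfl⟩
      · rintro ⟨⟨w, hw⟩, hw', rfl⟩
        have h6 : B w z = 0 := LinearMap.mem_ker.1 hw'
        refine ⟨hw, w, hw, ?_⟩
        rw [hτ, h6, mul_zero, zero_smul, add_zero]
        rfl
    rw [heq, finrank_map_inj L.subtype L.subtype_injective, hkg]
  -- `τ⁻¹ = τ = m a`; `L, m⁻¹ L` are both `k₀`-invariant
  have hQm : ∀ v, Q (ρ m v) = Q v := by
    intro v
    have h5 := hA a (ha) (ρ a⁻¹ v)
    have h6 : ρ a (ρ a⁻¹ v) = v := by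
      rw [← Module.End.mul_apply, ← map_mul, mul_inv_cancel, map_one]; rfl
    rw [h6] at h5
    have h7 := hQt (ρ a⁻¹ v)
    rw [← ham, h6] at h7
    rw [h7, h5]
  have hLm : Ln Q (L.map (ρ m)) := hL.map _ (inj_of_hom ρ m) hQm
  have hLa : Ln Q (L.map (ρ a)) := hL.map _ (inj_of_hom ρ a) (hA a ha)
  have hkm : ∀ v ∈ L.map (ρ m), k₀ v ∈ L.map (ρ m) := by
    rintro _ ⟨v, hv, rfl⟩
    rcases hM m hm with h | h
    · rw [← h]
      exact ⟨_, hLk v hv, rfl⟩
    · have h5 : k₀ (ρ m v) = ρ m (k₀ v + α • v) := by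
        rw [map_add, map_smul, h, add_assoc, hB.vadd_self, add_zero]
      rw [h5]
      exact ⟨_, L.add_mem (hLk v hv) (L.smul_mem _ hv), rfl⟩
  have hev1 : Ev L (L.map (ρ m)) := by
    intro h
    obtain ⟨v, hv0, hv1, hv2⟩ := exists_mem_of_odd h
    rw [finrank_eq_one_iff'] at h
    obtain ⟨⟨u, hu⟩, hu0, hall⟩ := h
    obtain ⟨p, hp⟩ := hall ⟨k₀ u, hLk u hu.1, hkm u hu.2⟩
    have hp' : p • u = k₀ u := congrArg Subtype.val hp
    exact hK.irr u (fun h => hu0 (Subtype.ext h)) p hp'.symm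
  apply hodd
  -- `L ~ m L`, `m L ~ m a L`
  have h8 : Ev (L.map (ρ m)) (L.map (ρ m * ρ a)) := by
    have : L.map (ρ m * ρ a) = (L.map (ρ a)).map (ρ m) := by
      rw [← Submodule.map_comp]; rfl
    rw [this, Ev.map_iff _ (inj_of_hom ρ m)]
    exact hev a ha L hL
  refine Ev.trans hB hQ h4 hL hLm ?_ hev1 h8
  have : L.map (ρ m * ρ a) = (L.map (ρ a)).map (ρ m) := by
    rw [← Submodule.map_comp]; rfl
  rw [this]
  exact hLa.map _ (inj_of_hom ρ m) hQm

/-- **`A` does not fix a quadratic form with its two families if `M` normalises a quadratic field.** -/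
theorem false_field_quad (hB : Sy B) (hR : Rp B ρ) (h4 : finrank F V = 4)
    (hAM : ∀ t : T, ∃ a ∈ A, ∃ m ∈ M, t = a * m) (hQ : Qf B Q) (hK : Kf B k₀ α β)
    (hM : ∀ m ∈ M, (∀ v, ρ m (k₀ v) = k₀ (ρ m v)) ∨ ∀ v, ρ m (k₀ v) = k₀ (ρ m v) + α • ρ m v)
    (hA : ∀ a ∈ A, ∀ v, Q (ρ a v) = Q v) (hev : ∀ a ∈ A, ∀ L : Submodule F V, Ln Q L → Ev L (L.map (ρ a)))
    {L : Submodule F V} (hL : Ln Q L) : False := by
  -- a `k₀`-invariant plane
  have hnt : Nontrivial V := by
    rw [← finrank_pos_iff (R := F)]; omega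
  obtain ⟨w, hw⟩ := exists_ne (0 : V)
  have hkw : ∀ c : F, k₀ w ≠ c • w := hK.irr w hw
  obtain ⟨y1, y2, hy⟩ := exists_hyp hB hw hkw (hK.alt hB w)
  -- a basis of `L`
  have hL0 : L ≠ ⊥ := by
    rintro rfl
    have := hL.rk
    rw [finrank_bot] at this
    omega
  obtain ⟨l2, hl2, hl20⟩ := Submodule.exists_mem_ne_zero_of_ne_bot hL0
  obtain ⟨l1, hl1, hi⟩ := Ln.exists_snd hL.rk hl20
  obtain ⟨z1, z2, hz⟩ := exists_hyp hB hl20 hi (hL.iso hQ hl1 hl2)
  obtain ⟨g, hg, hg1, hg2, -, -⟩ := hy.exists_iso hB h4 hz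
  obtain ⟨t, ht⟩ := hR.full g hg
  have hgk : ∀ v, g (g.symm v) = v := g.apply_symm_apply
  -- the conjugate field
  let k₁ : Module.End F V := (g.toLinearMap.comp k₀).comp g.symm.toLinearMap
  have hk₁ : ∀ v, k₁ v = g (k₀ (g.symm v)) := fun v => rfl
  have hK₁ : Kf B k₁ α β := by
    refine ⟨fun v => ?_, hK.ne, fun v hv c h => ?_, fun v w => ?_⟩
    · rw [hk₁, hk₁, g.symm_apply_apply, hK.rel, map_add, map_smul, map_smul, g.apply_symm_apply]
    · rw [hk₁] at h
      have h5 : k₀ (g.symm v) = c • g.symm v := by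
        apply g.injective
        rw [h, map_smul, g.apply_symm_apply]
      exact hK.irr _ (fun h => hv (by rw [← g.apply_symm_apply v, h, map_zero])) c h5
    · rw [hk₁, hk₁]
      have h5 : B (g (k₀ (g.symm v))) w = B (g (k₀ (g.symm v))) (g (g.symm w)) := by rw [hgk]
      have h6 : B v (g (k₀ (g.symm w))) = B (g (g.symm v)) (g (k₀ (g.symm w))) := by rw [hgk]
      rw [h5, h6, hg, hg, hK.sa]
  let M₁ : Subgroup T := M.map (MulAut.conj t).toMonoidHom
  have hρt : ∀ v, ρ t v = g v := fun v => by rw [ht]; rfl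
  have hρt' : ∀ v, ρ t⁻¹ v = g.symm v := by
    intro v
    apply g.injective
    rw [hgk, ← hρt, ← Module.End.mul_apply, ← map_mul, mul_inv_cancel, map_one]
    rfl
  refine false_field_quad_aux (M := M₁) hB hR h4 ?_ hQ hK₁ ?_ hA hev hL ?_
  · intro x
    obtain ⟨a, ha, m, hm, hx⟩ := fac_conj hAM t x
    exact ⟨a, ha, _, ⟨m, hm, rfl⟩, hx⟩
  · rintro _ ⟨m, hm, rfl⟩
    have h5 : ∀ v, ρ ((MulAut.conj t).toMonoidHom m) v = g (ρ m (g.symm v)) := by
      intro v
      change ρ (t * m * t⁻¹) v = _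
      rw [map_mul, map_mul, Module.End.mul_apply, Module.End.mul_apply, hρt, hρt']
    rcases hM m hm with h | h
    · left
      intro v
      rw [h5, h5, hk₁, hk₁, g.symm_apply_apply, g.symm_apply_apply, h]
    · right
      intro v
      rw [h5, h5, hk₁, hk₁, g.symm_apply_apply, g.symm_apply_apply, h, map_add, map_smul]
  · -- `L` is `k₁`-invariant
    have hk1 : k₁ l2 = l1 := by rw [hk₁, ← hg2, g.symm_apply_apply, hg1]
    have hk2 : k₁ l1 = α • l1 + β • l2 := by rw [← hk1, hK₁.rel, hk1]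
    intro v hv
    have hspan : L = (F ∙ l2) ⊔ (F ∙ l1) := by
      symm
      apply Submodule.eq_of_le_of_finrank_le
      · rw [sup_le_iff, Submodule.span_singleton_le_iff_mem, Submodule.span_singleton_le_iff_mem]
        exact ⟨hl2, hl1⟩
      · rw [hL.rk]
        by_contra hlt
        have h6 : finrank F ↥((F ∙ l2) ⊔ (F ∙ l1)) ≤ 1 := by omega
        have h7 : (F ∙ l2) = (F ∙ l2) ⊔ (F ∙ l1) := Submodule.eq_of_le_of_finrank_le le_sup_left
          (by rw [finrank_span_singleton hl20]; exact h6)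
        have h8 : l1 ∈ F ∙ l2 := by rw [h7]; exact Submodule.mem_sup_right (Submodule.mem_span_singleton_self l1)
        obtain ⟨c, hc⟩ := Submodule.mem_span_singleton.1 h8
        exact hi c hc.symm
    rw [hspan] at hv
    obtain ⟨x1, hx1, x2, hx2, rfl⟩ := Submodule.mem_sup.1 hv
    obtain ⟨p, rfl⟩ := Submodule.mem_span_singleton.1 hx1
    obtain ⟨q, rfl⟩ := Submodule.mem_span_singleton.1 hx2
    rw [map_add, map_smul, map_smul, hk1, hk2]
    exact L.add_mem (L.smul_mem _ hl1) (L.smul_mem _ (L.add_mem (L.smul_mem _ hl1) (L.smul_mem _ hl2)))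

end fam

end Cfsg.Agent.H427.Fc
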