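import Cfsg.Agent.H427.Fc.SpQ

/-!
# Symplectic groups in characteristic two: the normaliser of a quadratic field (helper427, S3679)

* `Kf B k₀ α β` : `k₀` is self-adjoint, `k₀² = α k₀ + β` irreducible and separable;
* `false_field_plane` : `T = A M`, `M` normalises `F[k₀]`: `A` does not fix a nondegenerate plane;
* `Ln Q L` : totally singular planes in dimension four; `even_trans`, `odd_odd` : the two families;
* `false_field_quad` : `T = A M`, `M` normalises `F[k₀]`, `A` fixes a quadratic form and the two families: impossible.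
-/

set_option autoImplicit false
set_option linter.unusedSectionVars false

namespace Cfsg.Agent.H427.Fc

open Module

variable {F : Type*} [Field F] {V : Type*} [AddCommGroup V] [Module F V] {B : V → V → F}

/-- a self-adjoint operator generating a quadratic field -/
structure Kf (B : V → V → F) (k₀ : Module.End F V) (α β : F) : Prop where
  rel : ∀ v, k₀ (k₀ v) = α • k₀ v + β • v
  ne : α ≠ 0
  irr : ∀ v, v ≠ 0 → ∀ c : F, k₀ v ≠ c • v
  sa : ∀ v w, B (k₀ v) w = B v (k₀ w)

section kf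

variable {k₀ : Module.End F V} {α β : F}

theorem Kf.alt (hB : Sy B) (hK : Kf B k₀ α β) (v : V) : B (k₀ v) v = 0 := by
  have h1 : B (k₀ (k₀ v)) v = 0 := by rw [hK.sa, hB.alt]
  rw [hK.rel, hB.add, hB.smul, hB.smul, hB.alt, mul_zero, add_zero] at h1
  exact (mul_eq_zero.1 h1).resolve_left hK.ne

theorem Kf.symm (hB : Sy B) (hK : Kf B k₀ α β) (v w : V) : B (k₀ v) w = B (k₀ w) v := by
  rw [hK.sa, hB.symm]

/-- no root in the field -/
theorem Kf.no_root (hK : Kf B k₀ α β) (h2 : (2 : F) = 0) {v : V} (hv : v ≠ 0) (c : F) : c * c + α * c + β ≠ 0 := by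
  intro h
  -- `(k₀ + c) (k₀ + c + α) v = 0`
  by_cases h1 : k₀ v = (c + α) • v
  · exact hK.irr v hv _ h1
  · have h3 : k₀ v + (c + α) • v ≠ 0 := by
      intro h4
      apply h1
      rw [add_eq_zero_iff_eq_neg] at h4
      rw [h4, ← neg_smul]
      congr 1
      linear_combination - (c + α) * h2
    refine hK.irr _ h3 c ?_
    rw [map_add, map_smul, hK.rel, smul_add, smul_smul, add_assoc, add_comm (β • v), ← add_assoc, ← add_smul]
    have h5 : α + (c + α) = c := by linear_combination α * h2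
    have h6 : β = c * (c + α) := by linear_combination h - (c * c + α * c) * h2
    rw [h5, h6]

variable {T : Type*} [Group T] {ρ : T →* Module.End F V} {A M : Subgroup T}

/-- **`A` does not fix a nondegenerate plane if `M` normalises a quadratic field.** -/
theorem false_field_plane (hB : Sy B) (hR : Rp B ρ) (hAM : ∀ t : T, ∃ a ∈ A, ∃ m ∈ M, t = a * m)
    (hK : Kf B k₀ α β) (hM : ∀ m ∈ M, (∀ v, ρ m (k₀ v) = k₀ (ρ m v)) ∨ ∀ v, ρ m (k₀ v) = k₀ (ρ m v) + α • ρ m v)
    (h3 : 3 ≤ Nat.card F) {e f : V} (hef : B e f = 1)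
    (hA : ∀ a ∈ A, (∃ x y : F, ρ a e = x • e + y • f) ∧ ∃ x y : F, ρ a f = x • e + y • f) : False := by
  have he : e ≠ 0 := by
    rintro rfl
    rw [hB.zero] at hef
    exact zero_ne_one hef
  set ψ := B (k₀ e) f with hψ
  have hN : ψ * ψ + α * ψ + β ≠ 0 := hK.no_root hB.two he ψ
  set n := (ψ * ψ + α * ψ + β)⁻¹ with hn
  have hn1 : n * (ψ * ψ + α * ψ + β) = 1 := inv_mul_cancel₀ hN
  set z := e + n • (ψ • f + k₀ f) with hz
  have hez : B e z = 0 := by
    rw [hz, hB.add', hB.alt, hB.smul', hB.add', hB.smul', hef, hB.symm e, hK.symm hB f e, ← hψ]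
    linear_combination n * ψ * hB.two
  have hfz : B f z = 1 := by
    rw [hz, hB.add', hB.symm f e, hef, hB.smul', hB.add', hB.smul', hB.alt, hB.symm f, hK.alt hB]
    ring
  have hkz : B (k₀ e) z = 1 := by
    rw [hz, hB.add', hK.alt hB, hB.smul', hB.add', hB.smul', ← hψ, ← hK.sa, hK.rel, hB.add, hB.smul, hB.smul, ← hψ,
      hef]
    linear_combination hn1
  obtain ⟨c, hc0, hc1⟩ := exists_ne_two h3 0 α
  obtain ⟨a, ha, m, hm, ham⟩ := exists_inv hB hR hAM z c
  obtain ⟨⟨p, q, hpq⟩, p', q', hpq'⟩ := hA a ha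
  have hdet : p * q' + q * p' = 1 := by
    have := hR.iso a e f
    rw [hpq, hpq', hef, hB.add, hB.smul, hB.smul, hB.add', hB.add', hB.smul', hB.smul', hB.smul', hB.smul', hB.alt,
      hB.alt, hef, hB.symm f e, hef] at this
    linear_combination this
  -- the functional on the plane
  have e1 : B (k₀ (ρ a e)) (ρ a f) = ψ := by
    rw [hpq, hpq', map_add, map_smul, map_smul, hB.add, hB.smul, hB.smul, hB.add', hB.add', hB.smul', hB.smul', hB.smul',
      hB.smul', hK.alt hB, hK.alt hB, hK.symm hB f e, ← hψ]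
    linear_combination ψ * hdet
  have e2 : B (k₀ (hB.tv z c e)) (hB.tv z c f) = ψ + c := by
    rw [hB.tv_apply, hB.tv_apply, hez, hfz, mul_zero, zero_smul, add_zero, mul_one, hB.add', hB.smul', ← hψ, hkz]
    ring
  rw [← ham, ← ham] at e2
  rcases hM m hm with h | h
  · rw [← h, hR.iso, e1] at e2
    exact hc0 (by linear_combination - e2)
  · have e3 : k₀ (ρ m (ρ a e)) = ρ m (k₀ (ρ a e)) + α • ρ m (ρ a e) := by
      rw [h, add_assoc, hB.vadd_self, add_zero]
    have e4 : B (ρ a e) (ρ a f) = 1 := by rw [hR.iso, hef]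
    rw [e3, hB.add, hB.smul, hR.iso, hR.iso, e1, e4] at e2
    exact hc1 (by linear_combination - e2)

end kf

/-! ### totally singular planes in dimension four -/

section lines

variable {Q : V → F}

/-- a totally singular plane -/
structure Ln (Q : V → F) (L : Submodule F V) : Prop where
  rk : finrank F L = 2
  sg : ∀ v ∈ L, Q v = 0

theorem Ln.iso (hQ : Qf B Q) {L : Submodule F V} (hL : Ln Q L) {v w : V} (hv : v ∈ L) (hw : w ∈ L) : B v w = 0 := by
  have h1 := hQ.polar v w
  rw [hL.sg v hv, hL.sg w hw, hL.sg _ (L.add_mem hv hw), zero_add, zero_add] at h1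
  exact h1.symm

variable [FiniteDimensional F V]

/-- a totally isotropic subspace has dimension at most two -/
theorem finrank_le_two (hB : Sy B) (h4 : finrank F V = 4) {W : Submodule F V} (hW : ∀ v ∈ W, ∀ w ∈ W, B v w = 0) :
    finrank F W ≤ 2 := by
  -- `W → (V / W)*` is injective
  let f : W →ₗ[F] Module.Dual F (V ⧸ W) :=
    { toFun := fun w => W.liftQ (hB.fn (w : V)) (fun v hv => by
        rw [LinearMap.mem_ker, hB.fn_apply]
        exact hW v hv w w.2)
      map_add' := fun u w => by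
        ext v
        change B v ((u : V) + w) = B v u + B v w
        exact hB.add' _ _ _
      map_smul' := fun c w => by
        ext v
        change B v (c • (w : V)) = c • B v w
        rw [hB.smul', smul_eq_mul] }
  have hf : Function.Injective f := by
    rw [← LinearMap.ker_eq_bot, LinearMap.ker_eq_bot']
    intro w hw
    apply Subtype.ext
    refine hB.nd _ fun v => ?_
    rw [hB.symm]
    exact LinearMap.congr_fun hw (Submodule.Quotient.mk v)
  have h1 := LinearMap.finrank_le_finrank_of_injective hf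
  rw [Subspace.dual_finrank_eq] at h1
  have h2 := W.finrank_quotient_add_finrank
  omega

/-- a plane through two independent vectors -/
theorem Ln.eq_of_mem {L L' : Submodule F V} (hL : Ln Q L) (hL' : Ln Q L') {v w : V} (hv : v ∈ L) (hw : w ∈ L)
    (hv' : v ∈ L') (hw' : w ∈ L') (hi : ∀ c : F, w ≠ c • v) (hv0 : v ≠ 0) : L = L' := by
  have h1 : 2 ≤ finrank F ↥(L ⊓ L') := by
    by_contra hlt
    have h2 : finrank F ↥(L ⊓ L') ≤ 1 := by omega
    rw [finrank_le_one_iff] at h2
    obtain ⟨⟨u, hu⟩, h3⟩ := h2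
    obtain ⟨c, hc⟩ := h3 ⟨v, hv, hv'⟩
    obtain ⟨d, hd⟩ := h3 ⟨w, hw, hw'⟩
    have hc' : c • u = v := congrArg Subtype.val hc
    have hd' : d • u = w := congrArg Subtype.val hd
    have hc0 : c ≠ 0 := by
      rintro rfl
      exact hv0 (by rw [← hc', zero_smul])
    apply hi (d / c)
    rw [← hc', smul_smul, div_mul_cancel₀ _ hc0, hd']
  have h3 : L ⊓ L' = L := Submodule.eq_of_le_of_finrank_le inf_le_left (by rw [hL.rk]; exact h1)
  have h4 : L ⊓ L' = L' := Submodule.eq_of_le_of_finrank_le inf_le_right (by rw [hL'.rk]; exact h1)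
  rw [← h3, h4]

/-- the second vector -/
theorem Ln.exists_snd {L : Submodule F V} (hL : finrank F L = 2) {v : V} (hv0 : v ≠ 0) : ∃ w ∈ L, ∀ c : F, w ≠ c • v := by
  by_contra hcon
  push Not at hcon
  have h1 : L ≤ F ∙ v := by
    intro w hw
    obtain ⟨c, hc⟩ := hcon w hw
    rw [hc]
    exact Submodule.smul_mem _ _ (Submodule.mem_span_singleton_self v)
  have h2 := Submodule.finrank_mono h1
  rw [finrank_span_singleton hv0, hL] at h2
  omega

/-- **Three planes through a point.** -/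
theorem Ln.three (hB : Sy B) (hQ : Qf B Q) (h4 : finrank F V = 4) {L1 L2 L3 : Submodule F V} (h1 : Ln Q L1)
    (h2 : Ln Q L2) (h3 : Ln Q L3) {v : V} (hv0 : v ≠ 0) (hv1 : v ∈ L1) (hv2 : v ∈ L2) (hv3 : v ∈ L3)
    (h12 : L1 ≠ L2) : L3 = L1 ∨ L3 = L2 := by
  obtain ⟨l1, hl1, hi1⟩ := Ln.exists_snd h1.rk hv0
  obtain ⟨l2, hl2, hi2⟩ := Ln.exists_snd h2.rk hv0
  obtain ⟨l3, hl3, hi3⟩ := Ln.exists_snd h3.rk hv0
  -- `v⊥` is spanned by `v`, `l1`, `l2`
  have hP : finrank F (LinearMap.ker (hB.fn v)) = 3 := by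
    have h5 := LinearMap.finrank_range_add_finrank_ker (hB.fn v)
    have h6 : finrank F (LinearMap.range (hB.fn v)) = 1 := by
      have h7 : finrank F (LinearMap.range (hB.fn v)) ≤ 1 := by
        have := Submodule.finrank_le (LinearMap.range (hB.fn v))
        rwa [finrank_self] at this
      have h8 : finrank F (LinearMap.range (hB.fn v)) ≠ 0 := by
        intro h9
        rw [Submodule.finrank_eq_zero, LinearMap.range_eq_bot] at h9
        apply hv0
        refine hB.nd v fun w => ?_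
        rw [hB.symm]
        exact LinearMap.congr_fun h9 w
      omega
    omega
  have hmem : ∀ w, w ∈ LinearMap.ker (hB.fn v) ↔ B w v = 0 := fun w => LinearMap.mem_ker
  have hsup : L1 ⊔ L2 = LinearMap.ker (hB.fn v) := by
    apply Submodule.eq_of_le_of_finrank_le
    · apply sup_le
      · intro w hw
        rw [hmem]
        exact h1.iso hQ hw hv1
      · intro w hw
        rw [hmem]
        exact h2.iso hQ hw hv2
    · have h5 := Submodule.finrank_sup_add_finrank_inf_eq L1 L2
      have h6 : finrank F ↥(L1 ⊓ L2) ≤ 1 := by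
        by_contra hlt
        have h7 : L1 ⊓ L2 = L1 := Submodule.eq_of_le_of_finrank_le inf_le_left (by rw [h1.rk]; omega)
        have h8 : L1 ⊓ L2 = L2 := Submodule.eq_of_le_of_finrank_le inf_le_right (by rw [h2.rk]; omega)
        exact h12 (by rw [← h7, h8])
      rw [h1.rk, h2.rk] at h5
      rw [hP]
      omega
  have hl3' : l3 ∈ L1 ⊔ L2 := by
    rw [hsup, hmem]
    exact h3.iso hQ hl3 hv3
  obtain ⟨x1, hx1, x2, hx2, hx⟩ := Submodule.mem_sup.1 hl3'
  have hq : B x1 x2 = 0 := by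
    have h5 := hQ.polar x1 x2
    rw [hx, h3.sg _ hl3, h1.sg _ hx1, h2.sg _ hx2, zero_add, zero_add] at h5
    exact h5.symm
  -- `x1 ∈ F v` or `x2 ∈ F v`
  by_cases hc1 : ∃ c : F, x1 = c • v
  · obtain ⟨c, rfl⟩ := hc1
    right
    refine h3.eq_of_mem h2 hv3 hl3 hv2 ?_ hi3 hv0
    rw [← hx]
    exact L2.add_mem (L2.smul_mem c hv2) hx2
  · by_cases hc2 : ∃ c : F, x2 = c • v
    · obtain ⟨c, rfl⟩ := hc2
      left
      refine h3.eq_of_mem h1 hv3 hl3 hv1 ?_ hi3 hv0
      rw [← hx]
      exact L1.add_mem hx1 (L1.smul_mem c hv1)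
    · exfalso
      push Not at hc1 hc2
      -- `⟨v, x1, x2⟩` is totally isotropic
      have h5 : L1 ⊔ L2 ≤ (F ∙ v) ⊔ (F ∙ x1) ⊔ (F ∙ x2) := by
        have g1 : L1 = (F ∙ v) ⊔ (F ∙ x1) := by
          symm
          apply Submodule.eq_of_le_of_finrank_le
          · rw [sup_le_iff, Submodule.span_singleton_le_iff_mem, Submodule.span_singleton_le_iff_mem]
            exact ⟨hv1, hx1⟩
          · rw [h1.rk]
            by_contra hlt
            have h6 : finrank F ↥((F ∙ v) ⊔ (F ∙ x1)) ≤ 1 := by omega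
            have h7 : (F ∙ v) = (F ∙ v) ⊔ (F ∙ x1) := Submodule.eq_of_le_of_finrank_le le_sup_left
              (by rw [finrank_span_singleton hv0]; exact h6)
            have h8 : x1 ∈ F ∙ v := by rw [h7]; exact Submodule.mem_sup_right (Submodule.mem_span_singleton_self x1)
            obtain ⟨c, hc⟩ := Submodule.mem_span_singleton.1 h8
            exact hc1 c hc.symm
        have g2 : L2 = (F ∙ v) ⊔ (F ∙ x2) := by
          symm
          apply Submodule.eq_of_le_of_finrank_le
          · rw [sup_le_iff, Submodule.span_singleton_le_iff_mem, Submodule.span_singleton_le_iff_mem]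
            exact ⟨hv2, hx2⟩
          · rw [h2.rk]
            by_contra hlt
            have h6 : finrank F ↥((F ∙ v) ⊔ (F ∙ x2)) ≤ 1 := by omega
            have h7 : (F ∙ v) = (F ∙ v) ⊔ (F ∙ x2) := Submodule.eq_of_le_of_finrank_le le_sup_left
              (by rw [finrank_span_singleton hv0]; exact h6)
            have h8 : x2 ∈ F ∙ v := by rw [h7]; exact Submodule.mem_sup_right (Submodule.mem_span_singleton_self x2)
            obtain ⟨c, hc⟩ := Submodule.mem_span_singleton.1 h8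
            exact hc2 c hc.symm
        rw [g1, g2]
        apply sup_le
        · exact le_sup_left
        · exact sup_le (le_sup_left.trans le_sup_left) le_sup_right
      have h6 : ∀ u ∈ L1 ⊔ L2, ∀ w ∈ L1 ⊔ L2, B u w = 0 := by
        have hvx1 : B v x1 = 0 := h1.iso hQ hv1 hx1
        have hvx2 : B v x2 = 0 := h2.iso hQ hv2 hx2
        intro u hu w hw
        have hu' := h5 hu
        have hw' := h5 hw
        obtain ⟨u1, hu1, u2, hu2, rfl⟩ := Submodule.mem_sup.1 hu'
        obtain ⟨u3, hu3, u4, hu4, rfl⟩ := Submodule.mem_sup.1 hu1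
        obtain ⟨w1, hw1, w2, hw2, rfl⟩ := Submodule.mem_sup.1 hw'
        obtain ⟨w3, hw3, w4, hw4, rfl⟩ := Submodule.mem_sup.1 hw1
        obtain ⟨a1, rfl⟩ := Submodule.mem_span_singleton.1 hu2
        obtain ⟨a2, rfl⟩ := Submodule.mem_span_singleton.1 hu3
        obtain ⟨a3, rfl⟩ := Submodule.mem_span_singleton.1 hu4
        obtain ⟨b1, rfl⟩ := Submodule.mem_span_singleton.1 hw2
        obtain ⟨b2, rfl⟩ := Submodule.mem_span_singleton.1 hw3
        obtain ⟨b3, rfl⟩ := Submodule.mem_span_singleton.1 hw4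
        simp only [hB.add, hB.add', hB.smul, hB.smul', hB.alt, hvx1, hvx2, hq, hB.symm x1 v, hB.symm x2 v, hB.symm x2 x1,
          mul_zero, add_zero]
      have h7 := finrank_le_two hB h4 h6
      rw [hsup, hP] at h7
      omega

/-- `L` and `L'` in the same family -/
def Ev (L L' : Submodule F V) : Prop := finrank F ↥(L ⊓ L') ≠ 1

theorem Ev.symm {L L' : Submodule F V} (h : Ev L L') : Ev L' L := by
  rw [Ev, inf_comm]; exact h

/-- a nonzero vector in the intersection -/
theorem exists_mem_of_odd {L L' : Submodule F V} (h : finrank F ↥(L ⊓ L') = 1) : ∃ v, v ≠ 0 ∧ v ∈ L ∧ v ∈ L' := by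
  have h1 : L ⊓ L' ≠ ⊥ := by
    intro h0
    rw [h0, finrank_bot] at h
    omega
  obtain ⟨v, hv, hv0⟩ := Submodule.exists_mem_ne_zero_of_ne_bot h1
  exact ⟨v, hv0, hv.1, hv.2⟩

theorem odd_of {L L' : Submodule F V} (hL : finrank F L = 2) (hL' : finrank F L' = 2) (hne : L ≠ L') {v : V}
    (hv0 : v ≠ 0) (hv : v ∈ L) (hv' : v ∈ L') : finrank F ↥(L ⊓ L') = 1 := by
  have h1 : finrank F ↥(L ⊓ L') ≤ 1 := by
    by_contra hlt
    have h7 : L ⊓ L' = L := Submodule.eq_of_le_of_finrank_le inf_le_left (by rw [hL]; omega)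
    have h8 : L ⊓ L' = L' := Submodule.eq_of_le_of_finrank_le inf_le_right (by rw [hL']; omega)
    exact hne (by rw [← h7, h8])
  have h2 : finrank F ↥(L ⊓ L') ≠ 0 := by
    intro h0
    rw [Submodule.finrank_eq_zero] at h0
    have : v ∈ L ⊓ L' := ⟨hv, hv'⟩
    rw [h0, Submodule.mem_bot] at this
    exact hv0 this
  omega

/-- **transitivity of the relation** -/
theorem Ev.trans (hB : Sy B) (hQ : Qf B Q) (h4 : finrank F V = 4) {L1 L2 L3 : Submodule F V} (h1 : Ln Q L1)
    (h2 : Ln Q L2) (h3 : Ln Q L3) (h12 : Ev L1 L2) (h23 : Ev L2 L3) : Ev L1 L3 := by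
  intro h13
  obtain ⟨v, hv0, hv1, hv3⟩ := exists_mem_of_odd h13
  have hne12 : L1 ≠ L2 := by
    rintro rfl
    exact h23 h13
  have hne23 : L2 ≠ L3 := by
    rintro rfl
    exact h12 h13
  have hne13 : L1 ≠ L3 := by
    rintro rfl
    rw [inf_idem, h1.rk] at h13
    omega
  -- a vector of `L2` orthogonal to `v`
  obtain ⟨u, hu0, hu2, huv⟩ : ∃ u, u ≠ 0 ∧ u ∈ L2 ∧ B u v = 0 := by
    let g : L2 →ₗ[F] F := (hB.fn v).comp L2.subtype
    have h5 := LinearMap.finrank_range_add_finrank_ker g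
    have h6 : finrank F (LinearMap.range g) ≤ 1 := by
      have := Submodule.finrank_le (LinearMap.range g)
      rwa [finrank_self] at this
    rw [h2.rk] at h5
    have h7 : LinearMap.ker g ≠ ⊥ := by
      intro h0
      rw [h0, finrank_bot] at h5
      omega
    obtain ⟨⟨u, hu⟩, hu', hu0⟩ := Submodule.exists_mem_ne_zero_of_ne_bot h7
    refine ⟨u, fun h => hu0 (Subtype.ext h), hu, ?_⟩
    exact LinearMap.mem_ker.1 hu'
  have huv' : ∀ c : F, u ≠ c • v := by
    rintro c rfl
    exact h12 (odd_of h1.rk h2.rk hne12 hu0 (L1.smul_mem c hv1) hu2)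
  -- the plane `⟨v, u⟩`
  have hN : Ln Q ((F ∙ v) ⊔ (F ∙ u)) := by
    constructor
    · have g1 : (F ∙ v) ⊓ (F ∙ u) = ⊥ := by
        rw [eq_bot_iff]
        rintro w ⟨hw1, hw2⟩
        obtain ⟨a, rfl⟩ := Submodule.mem_span_singleton.1 hw1
        obtain ⟨b, hb⟩ := Submodule.mem_span_singleton.1 hw2
        rw [Submodule.mem_bot]
        by_cases hb0 : b = 0
        · rw [hb0, zero_smul] at hb
          exact hb.symm
        · exfalso
          apply huv' (a / b)
          rw [div_eq_inv_mul, mul_smul, ← hb, smul_smul, inv_mul_cancel₀ hb0, one_smul]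
      have g2 := Submodule.finrank_sup_add_finrank_inf_eq (F ∙ v) (F ∙ u)
      rw [g1, finrank_bot, finrank_span_singleton hv0, finrank_span_singleton hu0] at g2
      exact g2
    · intro w hw
      obtain ⟨w1, hw1, w2, hw2, rfl⟩ := Submodule.mem_sup.1 hw
      obtain ⟨a, rfl⟩ := Submodule.mem_span_singleton.1 hw1
      obtain ⟨b, rfl⟩ := Submodule.mem_span_singleton.1 hw2
      rw [hQ.polar, hQ.smul, hQ.smul, h1.sg v hv1, h2.sg u hu2, hB.smul, hB.smul', hB.symm v u, huv]
      ring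
  rcases Ln.three hB hQ h4 h1 h3 hN hv0 hv1 hv3 (Submodule.mem_sup_left (Submodule.mem_span_singleton_self v)) hne13 with
    h | h
  · refine h12 (odd_of h1.rk h2.rk hne12 hu0 ?_ hu2)
    rw [← h]
    exact Submodule.mem_sup_right (Submodule.mem_span_singleton_self u)
  · refine h23 (odd_of h2.rk h3.rk hne23 hu0 hu2 ?_)
    rw [← h]
    exact Submodule.mem_sup_right (Submodule.mem_span_singleton_self u)

/-- **two families only** -/
theorem Ev.odd_odd (hB : Sy B) (hQ : Qf B Q) (h4 : finrank F V = 4) {L1 L2 L3 : Submodule F V} (h1 : Ln Q L1)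
    (h2 : Ln Q L2) (h3 : Ln Q L3) (h12 : ¬ Ev L1 L2) (h23 : ¬ Ev L2 L3) : Ev L1 L3 := by
  intro h13
  rw [Ev, not_not] at h12 h23
  obtain ⟨v, hv0, hv1, hv2⟩ := exists_mem_of_odd h12
  obtain ⟨w, hw0, hw2, hw3⟩ := exists_mem_of_odd h23
  obtain ⟨u, hu0, hu1, hu3⟩ := exists_mem_of_odd h13
  have hne12 : L1 ≠ L2 := by
    rintro rfl
    rw [inf_idem, h1.rk] at h12
    omega
  have hne23 : L2 ≠ L3 := by
    rintro rfl
    rw [inf_idem, h2.rk] at h23
    omega
  have hne13 : L1 ≠ L3 := by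
    rintro rfl
    rw [inf_idem, h1.rk] at h13
    omega
  have key : ∀ x, x ≠ 0 → x ∈ L1 → x ∈ L2 → x ∈ L3 → False := by
    intro x hx0 hx1 hx2 hx3
    rcases Ln.three hB hQ h4 h1 h2 h3 hx0 hx1 hx2 hx3 hne12 with h | h
    · exact hne13 h.symm
    · exact hne23 h.symm
  have hvw : ∀ c : F, w ≠ c • v := by
    rintro c rfl
    exact key _ hw0 (L1.smul_mem c hv1) hw2 hw3
  have hu2 : u ∉ L2 := fun h => key u hu0 hu1 h hu3
  -- `⟨v, w⟩ = L2`, and `u` is orthogonal to it
  have hspan : L2 = (F ∙ v) ⊔ (F ∙ w) := by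
    symm
    apply Submodule.eq_of_le_of_finrank_le
    · rw [sup_le_iff, Submodule.span_singleton_le_iff_mem, Submodule.span_singleton_le_iff_mem]
      exact ⟨hv2, hw2⟩
    · rw [h2.rk]
      by_contra hlt
      have h6 : finrank F ↥((F ∙ v) ⊔ (F ∙ w)) ≤ 1 := by omega
      have h7 : (F ∙ v) = (F ∙ v) ⊔ (F ∙ w) := Submodule.eq_of_le_of_finrank_le le_sup_left
        (by rw [finrank_span_singleton hv0]; exact h6)
      have h8 : w ∈ F ∙ v := by rw [h7]; exact Submodule.mem_sup_right (Submodule.mem_span_singleton_self w)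
      obtain ⟨c, hc⟩ := Submodule.mem_span_singleton.1 h8
      exact hvw c hc.symm
  have huv : B u v = 0 := h1.iso hQ hu1 hv1
  have huw : B u w = 0 := h3.iso hQ hu3 hw3
  have hu_orth : ∀ x ∈ L2, B u x = 0 := by
    intro x hx
    rw [hspan] at hx
    obtain ⟨x1, hx1, x2, hx2, rfl⟩ := Submodule.mem_sup.1 hx
    obtain ⟨a, rfl⟩ := Submodule.mem_span_singleton.1 hx1
    obtain ⟨b, rfl⟩ := Submodule.mem_span_singleton.1 hx2
    rw [hB.add', hB.smul', hB.smul', huv, huw]
    ring
  have h5 : ∀ x ∈ L2 ⊔ (F ∙ u), ∀ y ∈ L2 ⊔ (F ∙ u), B x y = 0 := by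
    intro x hx y hy
    obtain ⟨x1, hx1, x2, hx2, rfl⟩ := Submodule.mem_sup.1 hx
    obtain ⟨y1, hy1, y2, hy2, rfl⟩ := Submodule.mem_sup.1 hy
    obtain ⟨a, rfl⟩ := Submodule.mem_span_singleton.1 hx2
    obtain ⟨b, rfl⟩ := Submodule.mem_span_singleton.1 hy2
    rw [hB.add, hB.add', hB.add', hB.smul, hB.smul, hB.smul', hB.smul', h2.iso hQ hx1 hy1, hB.symm x1 u,
      hu_orth x1 hx1, hu_orth y1 hy1, hB.alt]
    ring
  have h6 := finrank_le_two hB h4 h5
  have h7 : L2 = L2 ⊔ (F ∙ u) := Submodule.eq_of_le_of_finrank_le le_sup_left (by rw [h2.rk]; exact h6)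
  apply hu2
  rw [h7]
  exact Submodule.mem_sup_right (Submodule.mem_span_singleton_self u)

end lines

end Cfsg.Agent.H427.Fc
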