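import Cfsg.Agent.H951.Lin

/-!
# Symplectic groups in characteristic two: factorizations `T = A M` (helper427, S3679)

`T` acts faithfully as the full isometry group of a symplectic space `(V, B)` in characteristic two, `T = A M`:

* `false_two_quad` : not both of `A`, `M` fix a quadratic form polarising to `B` (`|F| ≥ 3`, `dim V ≥ 3`);
* `false_plane` : `A` does not fix a nondegenerate plane if `M` fixes a quadratic form;
* `false_field_plane` : `A` does not fix a nondegenerate plane if `M` normalises a self-adjoint quadratic field.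
-/

set_option autoImplicit false
set_option linter.unusedSectionVars false

namespace Cfsg.Agent.H427.Fc

open Module

section basic

variable {F : Type*} [Field F]

theorem add_self (h2 : (2 : F) = 0) (a : F) : a + a = 0 := by
  rw [← two_mul, h2, zero_mul]

theorem exists_sqrt [Finite F] (h2 : (2 : F) = 0) : ∃ s : F → F, ∀ a, s a * s a = a := by
  have hinj : Function.Injective fun b : F => b * b := by
    intro a b hab
    have hab' : a * a = b * b := hab
    have h1 : (a + b) * (a + b) = 0 := by
      linear_combination hab' + (a * b + b * b) * h2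
    have h3 : a + b = 0 := mul_self_eq_zero.1 h1
    linear_combination h3 - b * h2
  have hsurj := Finite.surjective_of_injective hinj
  exact ⟨fun a => (hsurj a).choose, fun a => (hsurj a).choose_spec⟩

theorem sq_inj (h2 : (2 : F) = 0) {a b : F} (hab : a * a = b * b) : a = b := by
  have h1 : (a + b) * (a + b) = 0 := by
    linear_combination hab + (a * b + b * b) * h2
  have h3 : a + b = 0 := mul_self_eq_zero.1 h1
  linear_combination h3 - b * h2

/-- `r ↦ r² + r` is not surjective -/
theorem exists_not_as [Finite F] (h2 : (2 : F) = 0) : ∃ a : F, ∀ r : F, r * r + r ≠ a := by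
  by_contra hcon
  push Not at hcon
  have hsurj : Function.Surjective fun r : F => r * r + r := hcon
  have hinj := Finite.injective_iff_surjective.2 hsurj
  have h1 : (fun r : F => r * r + r) 0 = (fun r : F => r * r + r) 1 := by
    change (0 : F) * 0 + 0 = 1 * 1 + 1
    linear_combination - h2
  exact zero_ne_one (hinj h1)

theorem exists_ne_two (h3 : 3 ≤ Nat.card F) (a b : F) : ∃ c : F, c ≠ a ∧ c ≠ b := by
  classical
  by_contra hcon
  push Not at hcon
  have h1 : Nat.card F ≤ Nat.card Bool := by
    refine Nat.card_le_card_of_injective (fun c : F => decide (c = a)) ?_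
    intro c d hcd
    have hcd' : (c = a) ↔ (d = a) := by simpa using hcd
    by_cases hc : c = a
    · rw [hc, hcd'.1 hc]
    · rw [hcon c hc, hcon d fun h => hc (hcd'.2 h)]
  rw [Nat.card_eq_fintype_card (α := Bool), Fintype.card_bool] at h1
  omega

end basic

variable {F : Type*} [Field F] {V : Type*} [AddCommGroup V] [Module F V]

/-- a symplectic form in characteristic two -/
structure Sy (B : V → V → F) : Prop where
  two : (2 : F) = 0
  add : ∀ u v w, B (u + v) w = B u w + B v w
  smul : ∀ (c : F) (v w : V), B (c • v) w = c * B v w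
  symm : ∀ v w, B v w = B w v
  alt : ∀ v, B v v = 0
  nd : ∀ v, (∀ w, B v w = 0) → v = 0

/-- a quadratic form polarising to `B` -/
structure Qf (B : V → V → F) (Q : V → F) : Prop where
  smul : ∀ (c : F) (v : V), Q (c • v) = c * c * Q v
  polar : ∀ v w, Q (v + w) = Q v + Q w + B v w

/-- `T` acts as the full isometry group of `B` -/
structure Rp {T : Type*} [Group T] (B : V → V → F) (ρ : T →* Module.End F V) : Prop where
  iso : ∀ t v w, B (ρ t v) (ρ t w) = B v w
  full : ∀ g : V ≃ₗ[F] V, (∀ v w, B (g v) (g w) = B v w) → ∃ t, ρ t = g.toLinearMap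

variable {B : V → V → F}

namespace Sy

variable (hB : Sy B)

include hB

theorem add' (u v w : V) : B u (v + w) = B u v + B u w := by
  rw [hB.symm, hB.add, hB.symm v, hB.symm w]

theorem smul' (c : F) (v w : V) : B v (c • w) = c * B v w := by
  rw [hB.symm, hB.smul, hB.symm w]

theorem zero (v : V) : B 0 v = 0 := by
  have := hB.smul 0 0 v
  rwa [zero_smul, zero_mul] at this

theorem zero' (v : V) : B v 0 = 0 := by rw [hB.symm, hB.zero]

theorem neg (v : V) : -v = v := by
  rw [neg_eq_iff_add_eq_zero, ← two_smul F v, hB.two, zero_smul]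

theorem vadd_self (v : V) : v + v = 0 := by
  rw [← two_smul F v, hB.two, zero_smul]

/-- the functional `B (·, w)` -/
def fn (w : V) : V →ₗ[F] F where
  toFun v := B v w
  map_add' u v := hB.add u v w
  map_smul' c v := by rw [hB.smul, RingHom.id_apply, smul_eq_mul]

theorem fn_apply (v w : V) : hB.fn w v = B v w := rfl

/-- every functional is `B (·, z)` -/
theorem exists_rep [FiniteDimensional F V] (φ : V →ₗ[F] F) : ∃ z, ∀ v, φ v = B v z := by
  let f : V →ₗ[F] Module.Dual F V :=
    { toFun := fun z => hB.fn z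
      map_add' := fun y z => by
        ext v
        change B v (y + z) = B v y + B v z
        exact hB.add' v y z
      map_smul' := fun c z => by
        ext v
        change B v (c • z) = c • B v z
        rw [hB.smul', smul_eq_mul] }
  have hinj : Function.Injective f := by
    rw [← LinearMap.ker_eq_bot, LinearMap.ker_eq_bot']
    intro z hz
    refine hB.nd z fun w => ?_
    rw [hB.symm]
    exact LinearMap.congr_fun hz w
  have hsurj : Function.Surjective f :=
    (LinearMap.injective_iff_surjective_of_finrank_eq_finrank (Subspace.dual_finrank_eq).symm).1 hinj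
  obtain ⟨z, hz⟩ := hsurj φ
  exact ⟨z, fun v => (LinearMap.congr_fun hz v).symm⟩

/-- the transvection `v ↦ v + c B(v, w) w` -/
def tv (w : V) (c : F) : V ≃ₗ[F] V where
  toFun v := v + (c * B v w) • w
  map_add' u v := by rw [hB.add, mul_add, add_smul]; abel
  map_smul' a v := by
    rw [hB.smul, RingHom.id_apply, smul_add, smul_smul]
    congr 2
    ring
  invFun v := v + (c * B v w) • w
  left_inv v := by
    change v + (c * B v w) • w + (c * B (v + (c * B v w) • w) w) • w = v
    rw [hB.add, hB.smul, hB.alt, mul_zero, add_zero, add_assoc, hB.vadd_self, add_zero]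
  right_inv v := by
    change v + (c * B v w) • w + (c * B (v + (c * B v w) • w) w) • w = v
    rw [hB.add, hB.smul, hB.alt, mul_zero, add_zero, add_assoc, hB.vadd_self, add_zero]

theorem tv_apply (w : V) (c : F) (v : V) : hB.tv w c v = v + (c * B v w) • w := rfl

theorem tv_iso (w : V) (c : F) (u v : V) : B (hB.tv w c u) (hB.tv w c v) = B u v := by
  rw [tv_apply, tv_apply, hB.add, hB.add', hB.add', hB.smul, hB.smul, hB.smul', hB.smul', hB.alt, hB.symm w v]
  linear_combination (c * B u w * B v w) * hB.two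

end Sy

theorem Qf.tv {Q : V → F} (hB : Sy B) (hQ : Qf B Q) (w : V) (c : F) (v : V) :
    Q (hB.tv w c v) = Q v + (c * c * Q w + c) * (B v w * B v w) := by
  rw [hB.tv_apply, hQ.polar, hQ.smul, hB.smul']
  ring

theorem Qf.zero {Q : V → F} (hQ : Qf B Q) : Q 0 = 0 := by
  have := hQ.smul 0 0
  rwa [zero_smul, zero_mul, zero_mul] at this

/-- two forms with the same polarisation -/
theorem Qf.diff [Finite F] [FiniteDimensional F V] {Q0 Q1 : V → F} (hB : Sy B) (h0 : Qf B Q0) (h1 : Qf B Q1) :
    ∃ z, ∀ v, Q1 v = Q0 v + B v z * B v z := by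
  obtain ⟨s, hs⟩ := exists_sqrt (F := F) hB.two
  let φ : V →ₗ[F] F :=
    { toFun := fun v => s (Q1 v + Q0 v)
      map_add' := fun u v => by
        apply sq_inj hB.two
        rw [hs, h0.polar, h1.polar]
        have e1 := hs (Q1 u + Q0 u)
        have e2 := hs (Q1 v + Q0 v)
        linear_combination - e1 - e2 + (B u v - s (Q1 u + Q0 u) * s (Q1 v + Q0 v)) * hB.two
      map_smul' := fun c v => by
        apply sq_inj hB.two
        rw [hs, h0.smul, h1.smul, RingHom.id_apply, smul_eq_mul]
        have e2 := hs (Q1 v + Q0 v)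
        linear_combination - (c * c) * e2 }
  obtain ⟨z, hz⟩ := hB.exists_rep φ
  refine ⟨z, fun v => ?_⟩
  rw [← hz]
  change Q1 v = Q0 v + s (Q1 v + Q0 v) * s (Q1 v + Q0 v)
  rw [hs]
  linear_combination - Q0 v * hB.two

section fac

variable {T : Type*} [Group T] {ρ : T →* Module.End F V} {A M : Subgroup T}

/-- the basic relation: a transvection `t = a m` and a function fixed by `M` -/
theorem exists_inv (hB : Sy B) (hR : Rp B ρ) (hAM : ∀ t : T, ∃ a ∈ A, ∃ m ∈ M, t = a * m) (w : V) (c : F) :
    ∃ a ∈ A, ∃ m ∈ M, ∀ v, ρ m (ρ a v) = hB.tv w c v := by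
  obtain ⟨t, ht⟩ := hR.full (hB.tv w c) (hB.tv_iso w c)
  obtain ⟨a, ha, m, hm, htam⟩ := hAM t
  refine ⟨a⁻¹, A.inv_mem ha, m⁻¹, M.inv_mem hm, fun v => ?_⟩
  have h1 : ρ t (hB.tv w c v) = v := by
    rw [ht]
    exact (hB.tv w c).left_inv v
  have h2 : ρ (m⁻¹ * a⁻¹) v = ρ (t⁻¹) (ρ t (hB.tv w c v)) := by
    rw [h1, htam, mul_inv_rev]
  rw [← Module.End.mul_apply, ← map_mul, h2, ← Module.End.mul_apply, ← map_mul, inv_mul_cancel, map_one]
  rfl

/-- **`A` and `M` do not both fix a quadratic form.** -/
theorem false_two_quad [Finite F] [FiniteDimensional F V] (hB : Sy B) (hR : Rp B ρ)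
    (hAM : ∀ t : T, ∃ a ∈ A, ∃ m ∈ M, t = a * m) {Q0 Q1 : V → F} (h0 : Qf B Q0) (h1 : Qf B Q1)
    (hA : ∀ a ∈ A, ∀ v, Q0 (ρ a v) = Q0 v) (hM : ∀ m ∈ M, ∀ v, Q1 (ρ m v) = Q1 v) (h3 : 3 ≤ Nat.card F)
    (hd : 3 ≤ finrank F V) : False := by
  obtain ⟨z, hz⟩ := Qf.diff hB h0 h1
  obtain ⟨s, hs⟩ := exists_sqrt (F := F) hB.two
  -- a nonsingular vector orthogonal to `z`
  have hw : ∃ w, B w z = 0 ∧ Q0 w ≠ 0 := by
    by_contra hcon
    push Not at hcon
    have hker : ∀ w w', B w z = 0 → B w' z = 0 → B w w' = 0 := by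
      intro w w' hw hw'
      have h4 := h0.polar w w'
      rw [hcon w hw, hcon w' hw', hcon (w + w') (by rw [hB.add, hw, hw', add_zero]), zero_add, zero_add] at h4
      exact h4.symm
    by_cases hz0 : ∀ v, B v z = 0
    · have h5 : ∀ v : V, v = 0 := fun v => hB.nd v fun w => hker v w (hz0 v) (hz0 w)
      have h6 : Subsingleton V := ⟨fun a b => by rw [h5 a, h5 b]⟩
      rw [finrank_zero_of_subsingleton] at hd
      omega
    · push Not at hz0
      obtain ⟨v0, hv0⟩ := hz0
      have h5 : finrank F (LinearMap.ker (hB.fn z)) ≤ 1 := by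
        let f : LinearMap.ker (hB.fn z) →ₗ[F] F := (hB.fn v0).comp (Submodule.subtype _)
        have hf : Function.Injective f := by
          rw [← LinearMap.ker_eq_bot, LinearMap.ker_eq_bot']
          rintro ⟨w, hw⟩ hfw
          have hw' : B w z = 0 := LinearMap.mem_ker.1 hw
          have hfw' : B w v0 = 0 := hfw
          apply Subtype.ext
          refine hB.nd w fun v => ?_
          have h6 : B (v + (B v z / B v0 z) • v0) z = 0 := by
            rw [hB.add, hB.smul, div_mul_cancel₀ _ hv0]
            exact add_self hB.two _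
          have h7 := hker w _ hw' h6
          rwa [hB.add', hB.smul', hfw', mul_zero, add_zero] at h7
        have := LinearMap.finrank_le_finrank_of_injective hf
        rwa [finrank_self] at this
      have h6 := LinearMap.finrank_range_add_finrank_ker (hB.fn z)
      have h7 : finrank F (LinearMap.range (hB.fn z)) ≤ 1 := by
        have := Submodule.finrank_le (LinearMap.range (hB.fn z))
        rwa [finrank_self] at this
      omega
  obtain ⟨w, hwz, hw0⟩ := hw
  obtain ⟨c, hc0, hc1⟩ := exists_ne_two h3 0 (Q0 w)⁻¹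
  obtain ⟨a, ha, m, hm, ham⟩ := exists_inv hB hR hAM w c
  -- `Q1 (a v) = Q1 (t v)`
  have e1 : ∀ v, Q1 (ρ a v) = Q1 (hB.tv w c v) := fun v => by rw [← ham, hM m hm]
  have hQw : Q1 w = Q0 w := by rw [hz, hwz, mul_zero, add_zero]
  set k := c * c * Q0 w + c with hk
  -- `a⁻¹ z = z + s w`
  have e2 : ρ a⁻¹ z = z + s k • w := by
    have key : ∀ v, B v (ρ a⁻¹ z) = B v (z + s k • w) := by
      intro v
      apply sq_inj hB.two
      have e3 : B v (ρ a⁻¹ z) = B (ρ a v) z := by
        rw [← hR.iso a v, ← Module.End.mul_apply, ← map_mul, mul_inv_cancel, map_one]; rfl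
      have e4 := e1 v
      rw [h1.tv hB, hz, hz v, hA a ha, hQw, ← hk] at e4
      rw [e3, hB.add', hB.smul', ]
      have e5 := hs k
      linear_combination e4 - (B v w * B v w) * e5 - (s k * B v w * B v z) * hB.two
    have h8 : ρ a⁻¹ z + (z + s k • w) = 0 := by
      refine hB.nd _ fun v => ?_
      rw [hB.symm, hB.add', key]
      exact add_self hB.two _
    rw [add_eq_zero_iff_eq_neg, hB.neg] at h8
    exact h8
  have e3 := hA a⁻¹ (A.inv_mem ha) z
  rw [e2, h0.polar, h0.smul, hB.smul', hB.symm z w, hwz, mul_zero, add_zero, hs] at e3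
  have e4 : k * Q0 w = 0 := by linear_combination e3
  rcases mul_eq_zero.1 e4 with h | h
  · apply hc1
    have h5 : c * (c * Q0 w + 1) = 0 := by rw [← h, hk]; ring
    have h6 := (mul_eq_zero.1 h5).resolve_left hc0
    rw [eq_comm, inv_eq_iff_eq_inv, eq_comm, inv_eq_one_div, div_eq_iff hc0]
    linear_combination - h6 + hB.two
  · exact hw0 h

/-- **`A` does not fix a nondegenerate plane if `M` fixes a quadratic form.** -/
theorem false_plane [Finite F] (hB : Sy B) (hR : Rp B ρ)
    (hAM : ∀ t : T, ∃ a ∈ A, ∃ m ∈ M, t = a * m) {Q : V → F} (hQ : Qf B Q)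
    (hM : ∀ m ∈ M, ∀ v, Q (ρ m v) = Q v) {e f e2 f2 : V} (hef : B e f = 1) (hef2 : B e2 f2 = 1)
    (h1 : B e e2 = 0) (h2 : B e f2 = 0) (h3 : B f e2 = 0) (h4 : B f f2 = 0)
    (hA : ∀ a ∈ A, (∃ x y : F, ρ a e = x • e + y • f) ∧ ∃ x y : F, ρ a f = x • e + y • f) : False := by
  obtain ⟨s, hs⟩ := exists_sqrt (F := F) hB.two
  -- nonsingular vectors in both planes
  have key : ∀ u v : V, B u v = 1 → ∃ x y : F, Q (x • u + y • v) ≠ 0 := by
    intro u v huv
    by_contra hcon
    push Not at hcon
    have g1 := hcon 1 0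
    have g2 := hcon 0 1
    have g3 := hcon 1 1
    rw [one_smul, zero_smul, add_zero] at g1
    rw [one_smul, zero_smul, zero_add] at g2
    rw [one_smul, one_smul, hQ.polar, g1, g2, huv, add_zero, zero_add] at g3
    exact one_ne_zero g3
  obtain ⟨x, y, hw1⟩ := key e f hef
  obtain ⟨x2, y2, hw2⟩ := key e2 f2 hef2
  set w1 := x • e + y • f with hw1d
  set w2 := x2 • e2 + y2 • f2 with hw2d
  have hw12 : B w1 w2 = 0 := by
    rw [hw1d, hw2d, hB.add, hB.smul, hB.smul, hB.add', hB.add', hB.smul', hB.smul', hB.smul', hB.smul', h1, h2, h3, h4]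
    ring
  have hew : B e (w1 + w2) = y := by
    rw [hB.add', hw1d, hw2d, hB.add', hB.add', hB.smul', hB.smul', hB.smul', hB.smul', h1, h2, hB.alt, hef]
    ring
  have hfw : B f (w1 + w2) = x := by
    rw [hB.add', hw1d, hw2d, hB.add', hB.add', hB.smul', hB.smul', hB.smul', hB.smul', h3, h4, hB.alt, hB.symm f e,
      hef]
    ring
  have hQw : Q (w1 + w2) = Q w1 + Q w2 := by rw [hQ.polar, hw12, add_zero]
  have hQw1 : Q w1 = x * x * Q e + y * y * Q f + x * y := by
    rw [hw1d, hQ.polar, hQ.smul, hQ.smul, hB.smul, hB.smul', hef]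
    ring
  obtain ⟨a0, ha0⟩ := exists_not_as (F := F) hB.two
  -- `c² Q(w1) Q(w2) = a0`
  set c := s (a0 / (Q w1 * Q w2)) with hc
  have hcc : c * c * (Q w1 * Q w2) = a0 := by
    rw [hc, hs, div_mul_cancel₀ _ (mul_ne_zero hw1 hw2)]
  obtain ⟨a, ha, m, hm, ham⟩ := exists_inv hB hR hAM (w1 + w2) c
  have e1 : ∀ v, Q (ρ a v) = Q (hB.tv (w1 + w2) c v) := fun v => by rw [← ham, hM m hm]
  obtain ⟨⟨p, q, hpq⟩, p', q', hpq'⟩ := hA a ha
  have hdet : p * q' + q * p' = 1 := by
    have := hR.iso a e f
    rw [hpq, hpq', hef, hB.add, hB.smul, hB.smul, hB.add', hB.add', hB.smul', hB.smul', hB.smul', hB.smul', hB.alt,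
      hB.alt, hef, hB.symm f e, hef] at this
    linear_combination this
  have g1 := e1 e
  have g2 := e1 f
  rw [hQ.tv hB, hew, hQw, hpq, hQ.polar, hQ.smul, hQ.smul, hB.smul, hB.smul', hef] at g1
  rw [hQ.tv hB, hfw, hQw, hpq', hQ.polar, hQ.smul, hQ.smul, hB.smul, hB.smul', hef] at g2
  set E := Q e
  set G := Q f
  set P := Q w1
  set R := Q w2
  set k := c * c * (P + R) + c with hk
  apply ha0 ((p * p' * E + q * q' * G + q * p') + k * x * y + c * P)
  rw [← hcc]
  -- the product of the two equations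
  have g3 : (p * p * E + q * q * G + p * (q * 1)) * (p' * p' * E + q' * q' * G + p' * (q' * 1)) =
      (E + k * (y * y)) * (G + k * (x * x)) := by rw [g1, g2]
  have h20 := hB.two
  have i1 : (p * p' * E + q * q' * G + q * p') * (p * p' * E + q * q' * G + q * p') + (p * p' * E + q * q' * G + q * p')
      = (p * p * E + q * q * G + p * (q * 1)) * (p' * p' * E + q' * q' * G + p' * (q' * 1)) + E * G := by
    linear_combination (- E * G * (p * q' + q * p' + 1) - E * p * p' - G * q * q' - q * p') * hdet +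
      (p * p' * q * q' * E * G + p * p' * q * p' * E + q * q' * q * p' * G + E * G * p * q' * q * p' - E * G +
        q * q * p' * p') * h20
  generalize p * p' * E + q * q' * G + q * p' = r0 at i1 ⊢
  linear_combination i1 + g3 - k * hQw1 + P * hk + (E * G + k * k * x * x * y * y + (r0 * k * x * y + r0 * c * P +
    k * x * y * c * P) + c * c * P * P + c * P) * h20

end fac

end Cfsg.Agent.H427.Fc
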