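import Cfsg.Agent.H427.Fc.SpC
import Cfsg.Agent.ClassicalGeometry.SympBasic
import Cfsg.Prelude.Def_GeometricClasses

/-!
# The symplectic group as a group of matrices in characteristic two (helper427, S3679)

* `sy_symp`, `rhoSp`, `rhoSp_inj`, `rp_symp`, `qf_symp`;
* `exists_kf` : a self-adjoint field subalgebra of degree two.
-/

set_option autoImplicit false
set_option linter.unusedSectionVars false

namespace Cfsg.Agent.H427.Fc

open Module Cfsg Cfsg.Geo Cfsg.Agent.ClassicalGeometry.SympBasic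
open scoped Matrix MatrixGroups

variable {F : Type*} [Field F] {m : ℕ}

theorem sy_symp (h2 : (2 : F) = 0) : Sy (sympForm m F) where
  two := h2
  add := sympForm_add_left
  smul := sympForm_smul_left
  symm := fun v w => by
    rw [sympForm_swap]
    linear_combination - (sympForm m F w v) * h2
  alt := sympForm_self
  nd := fun v h => eq_zero_of_forall_sympForm_right h

/-- the natural representation -/
def rhoSp (m : ℕ) (F : Type*) [Field F] :
    Matrix.symplecticGroup (Fin m) F →* Module.End F (Fin m ⊕ Fin m → F) where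
  toFun A := Matrix.toLin' A.1
  map_one' := Matrix.toLin'_one
  map_mul' A B := Matrix.toLin'_mul A.1 B.1

theorem rhoSp_apply (A : Matrix.symplecticGroup (Fin m) F) (v : Fin m ⊕ Fin m → F) :
    rhoSp m F A v = A.1 *ᵥ v := Matrix.toLin'_apply _ _

theorem rhoSp_inj : Function.Injective (rhoSp m F) := by
  intro A B h
  exact Subtype.ext (Matrix.toLin'.injective h)

theorem rp_symp : Rp (sympForm m F) (rhoSp m F) where
  iso := fun A v w => by
    rw [rhoSp_apply, rhoSp_apply]
    exact mem_symplecticGroup_iff.1 A.2 v w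
  full := fun g hg => by
    refine ⟨⟨LinearMap.toMatrix' g.toLinearMap, mem_symplecticGroup_iff.2 fun u v => ?_⟩, ?_⟩
    · rw [LinearMap.toMatrix'_mulVec, LinearMap.toMatrix'_mulVec]
      exact hg u v
    · exact Matrix.toLin'_toMatrix' _

/-- a quadratic form -/
theorem qf_symp (h2 : (2 : F) = 0) : Qf (sympForm m F)
    (fun v : Fin m ⊕ Fin m → F => ∑ i, v (Sum.inl i) * v (Sum.inr i)) where
  smul := fun c v => by
    simp only [Pi.smul_apply, smul_eq_mul]
    rw [Finset.mul_sum]
    exact Finset.sum_congr rfl fun i _ => by ring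
  polar := fun v w => by
    simp only [Pi.add_apply, sympForm_eq_sum]
    rw [← Finset.sum_add_distrib, ← Finset.sum_add_distrib]
    refine Finset.sum_congr rfl fun i _ => ?_
    linear_combination (v (Sum.inl i) * w (Sum.inr i)) * h2

theorem exists_kf [Finite F] (h2 : (2 : F) = 0) {K : Subalgebra F (Matrix (Fin m ⊕ Fin m) (Fin m ⊕ Fin m) F)}
    (hK : IsFieldSubalgebra 2 K) (hsa : IsSelfAdjointFor (sympForm m F) K) :
    ∃ (k₀ : Module.End F (Fin m ⊕ Fin m → F)) (α β : F), Kf (sympForm m F) k₀ α β ∧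
      ∀ g ∈ subalgebraNormalizer K,
        (∀ v, (g : Matrix _ _ F) *ᵥ (k₀ v) = k₀ ((g : Matrix _ _ F) *ᵥ v)) ∨
        ∀ v, (g : Matrix _ _ F) *ᵥ (k₀ v) = k₀ ((g : Matrix _ _ F) *ᵥ v) + α • ((g : Matrix _ _ F) *ᵥ v) := by
  have : FiniteDimensional F K := FiniteDimensional.of_finrank_pos (by rw [hK.finrank_eq]; norm_num)
  -- an element outside `F`
  obtain ⟨k, hk, hkF⟩ : ∃ k ∈ K, ∀ c : F, k ≠ c • (1 : Matrix _ _ F) := by
    by_contra hcon
    push Not at hcon
    have h1 : finrank F K ≤ 1 := by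
      refine finrank_le_one (1 : K) fun w => ?_
      obtain ⟨c, hc⟩ := hcon w w.2
      exact ⟨c, Subtype.ext hc.symm⟩
    rw [hK.finrank_eq] at h1
    omega
  have hone : (1 : Matrix (Fin m ⊕ Fin m) (Fin m ⊕ Fin m) F) ≠ 0 := by
    intro h
    apply hkF 0
    rw [zero_smul, ← mul_one k, h, mul_zero]
  -- the products in `K`
  have hprod : ∀ x ∈ K, ∀ y ∈ K, x * y = 0 → x = 0 ∨ y = 0 := by
    intro x hx y hy hxy
    by_cases hx0 : x = 0
    · exact Or.inl hx0
    · right
      obtain ⟨z, -, hz⟩ := hK.inv x hx hx0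
      have h1 : x * (z * y) = y := by rw [← mul_assoc, hz, one_mul]
      have h3 : z * x = 1 := mul_eq_one_comm.1 hz
      calc y = z * x * y := by rw [h3, one_mul]
        _ = 0 := by rw [mul_assoc, hxy, mul_zero]
  -- the relation
  obtain ⟨α, β, hrel⟩ : ∃ α β : F, k * k = α • k + β • (1 : Matrix _ _ F) := by
    let x1 : K := 1
    let x2 : K := ⟨k, hk⟩
    have h1 : (⊤ : Submodule F K) = (F ∙ x1) ⊔ (F ∙ x2) := by
      symm
      apply Submodule.eq_of_le_of_finrank_le le_top
      rw [finrank_top, hK.finrank_eq]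
      by_contra hlt
      have h6 : finrank F ↥((F ∙ x1) ⊔ (F ∙ x2)) ≤ 1 := by omega
      have hx10 : x1 ≠ 0 := fun h => hone (congrArg Subtype.val h)
      have h7 : (F ∙ x1) = (F ∙ x1) ⊔ (F ∙ x2) := Submodule.eq_of_le_of_finrank_le le_sup_left
        (by rw [finrank_span_singleton hx10]; exact h6)
      have h8 : x2 ∈ F ∙ x1 := by rw [h7]; exact Submodule.mem_sup_right (Submodule.mem_span_singleton_self x2)
      obtain ⟨c, hc⟩ := Submodule.mem_span_singleton.1 h8
      exact hkF c (congrArg Subtype.val hc).symm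
    have h2 : x2 * x2 ∈ (F ∙ x1) ⊔ (F ∙ x2) := by rw [← h1]; trivial
    obtain ⟨y1, hy1, y2, hy2, hy⟩ := Submodule.mem_sup.1 h2
    obtain ⟨b, rfl⟩ := Submodule.mem_span_singleton.1 hy1
    obtain ⟨a, rfl⟩ := Submodule.mem_span_singleton.1 hy2
    refine ⟨a, b, ?_⟩
    have h3 : b • (1 : Matrix _ _ F) + a • k = k * k := congrArg Subtype.val hy
    rw [← h3, add_comm]
  have hsm : ∀ c : F, c • (1 : Matrix _ _ F) ∈ K := fun c => K.smul_mem K.one_mem c
  have hchar : ∀ x : Matrix (Fin m ⊕ Fin m) (Fin m ⊕ Fin m) F, x + x = 0 := fun x => by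
    rw [← two_smul F x, h2, zero_smul]
  refine ⟨Matrix.toLin' k, α, β, ⟨fun v => ?_, ?_, fun v hv c h => ?_, fun v w => ?_⟩, fun g hg => ?_⟩
  · rw [Matrix.toLin'_apply, Matrix.toLin'_apply, Matrix.mulVec_mulVec, hrel, Matrix.add_mulVec, Matrix.smul_mulVec,
      Matrix.smul_mulVec, Matrix.one_mulVec]
  · rintro rfl
    obtain ⟨s, hs⟩ := exists_sqrt (F := F) h2
    have h1 : (k + s β • 1) * (k + s β • 1) = 0 := by
      have e1 : (k + s β • 1) * (k + s β • 1) = k * k + (s β * s β) • 1 + (s β • k + s β • k) := by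
        simp only [add_mul, mul_add, Matrix.mul_smul, Matrix.smul_mul, mul_one, one_mul, smul_smul]
        abel
      rw [e1, hs, hchar, hrel, zero_smul, zero_add, add_zero, hchar]
    have h3 : k + s β • 1 = 0 := by
      rcases hprod _ (K.add_mem hk (hsm _)) _ (K.add_mem hk (hsm _)) h1 with h | h <;> exact h
    apply hkF (s β)
    have h5 : k = k + s β • 1 + s β • 1 := by rw [add_assoc, hchar, add_zero]
    rw [h5, h3, zero_add]
  · rw [Matrix.toLin'_apply] at h
    have h1 : k - c • 1 ≠ 0 := fun h0 => hkF c (sub_eq_zero.1 h0)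
    obtain ⟨z, -, hz⟩ := hK.inv _ (K.sub_mem hk (hsm c)) h1
    have h3 : z * (k - c • 1) = 1 := mul_eq_one_comm.1 hz
    apply hv
    rw [← Matrix.one_mulVec v, ← h3, ← Matrix.mulVec_mulVec, Matrix.sub_mulVec, h, Matrix.smul_mulVec,
      Matrix.one_mulVec, sub_self, Matrix.mulVec_zero]
  · rw [Matrix.toLin'_apply, Matrix.toLin'_apply]
    exact hsa k hk v w
  · -- the conjugate of `k`
    set g' : Matrix (Fin m ⊕ Fin m) (Fin m ⊕ Fin m) F := (g : Matrix (Fin m ⊕ Fin m) (Fin m ⊕ Fin m) F) with hg'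
    set gi : Matrix (Fin m ⊕ Fin m) (Fin m ⊕ Fin m) F := ((g⁻¹ : GL (Fin m ⊕ Fin m) F) : Matrix (Fin m ⊕ Fin m) (Fin m ⊕ Fin m) F) with hgi
    have hgg : gi * g' = 1 := by
      rw [hg', hgi, ← Units.val_mul, inv_mul_cancel, Units.val_one]
    have hgg' : g' * gi = 1 := by
      rw [hg', hgi, ← Units.val_mul, mul_inv_cancel, Units.val_one]
    have hk1 : g' * k * gi ∈ K := (hg k).1 hk
    set k1 := g' * k * gi with hk1d
    have hrel1 : k1 * k1 = α • k1 + β • 1 := by
      have e1 : k1 * k1 = g' * (k * k) * gi := by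
        rw [hk1d]
        calc g' * k * gi * (g' * k * gi) = g' * k * (gi * g') * k * gi := by simp only [mul_assoc]
          _ = g' * (k * k) * gi := by rw [hgg, mul_one]; simp only [mul_assoc]
      rw [e1, hrel, mul_add, add_mul, Matrix.mul_smul, Matrix.smul_mul, Matrix.mul_smul, Matrix.smul_mul, mul_one,
        hgg', hk1d]
    have hkg : k1 * g' = g' * k := by
      rw [hk1d, mul_assoc, hgg, mul_one]
    have h1 : (k1 + k) * (k1 + k + α • 1) = 0 := by
      have hc := hK.comm k1 hk1 k hk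
      have e1 : (k1 + k) * (k1 + k + α • 1) = k1 * k1 + k * k + (k1 * k + k * k1) + (α • k1 + α • k) := by
        simp only [add_mul, mul_add, Matrix.mul_smul, mul_one]
        abel
      rw [e1, hc, hchar, hrel, hrel1, add_zero]
      have e2 : α • k1 + β • (1 : Matrix (Fin m ⊕ Fin m) (Fin m ⊕ Fin m) F) + (α • k + β • 1) + (α • k1 + α • k) =
          (α • k1 + α • k1) + (α • k + α • k) + (β • 1 + β • 1) := by abel
      rw [e2, hchar (α • k1), hchar (α • k), hchar (β • 1), add_zero, add_zero]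
    have hmv : ∀ v, g' *ᵥ (Matrix.toLin' k v) = k1 *ᵥ (g' *ᵥ v) := fun v => by
      rw [Matrix.toLin'_apply, Matrix.mulVec_mulVec, Matrix.mulVec_mulVec, hkg]
    rcases hprod _ (K.add_mem hk1 hk) _ (K.add_mem (K.add_mem hk1 hk) (hsm α)) h1 with h | h
    · left
      intro v
      have e1 : k1 = k := by
        have e2 : k1 = k1 + k + k := by rw [add_assoc, hchar, add_zero]
        rw [e2, h, zero_add]
      rw [hmv, e1, Matrix.toLin'_apply]
    · right
      intro v
      have e1 : k1 = k + α • 1 := by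
        have e2 : k1 = k1 + k + α • 1 + (k + α • 1) := by
          have : k1 + k + α • 1 + (k + α • 1) = k1 + (k + k) + (α • 1 + α • 1) := by abel
          rw [this, hchar, hchar, add_zero, add_zero]
        rw [e2, h, zero_add]
      rw [hmv, e1, Matrix.toLin'_apply, Matrix.add_mulVec, Matrix.smul_mulVec, Matrix.one_mulVec]

end Cfsg.Agent.H427.Fc
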